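import Mathlib
import Groth.Agent.S5767
import Groth.Agent.S16234

/-!
Systems of parameters for finite modules over semi-local Noetherian rings.
-/

set_option autoImplicit false
universe u

open scoped Pointwise

namespace Groth.Agent.EGA41Lib

variable {A : Type u} [CommRing A] [IsNoetherianRing A]

section SemiLocal

variable [Finite (MaximalSpectrum A)]

theorem exists_ringKrullDim_le_natCast (A : Type u) [CommRing A] [IsNoetherianRing A]
    [Finite (MaximalSpectrum A)] : ∃ N : ℕ, ringKrullDim A ≤ (N : WithBot ℕ∞) := by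
  haveI := Fintype.ofFinite (MaximalSpectrum A)
  refine ⟨Finset.univ.sup fun m : MaximalSpectrum A => m.asIdeal.height.toNat, ?_⟩
  rw [ringKrullDim_le_iff_isMaximal_height_le]
  intro m hm
  have hfin : m.height ≠ ⊤ := Ideal.height_ne_top hm.ne_top
  rw [← ENat.coe_toNat hfin]
  exact_mod_cast Finset.le_sup (f := fun m : MaximalSpectrum A => m.asIdeal.height.toNat)
    (Finset.mem_univ ⟨m, hm⟩)

theorem exists_supportDim_eq_natCast (M : Type u) [AddCommGroup M] [Module A M] [Nontrivial M] :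
    ∃ d : ℕ, Module.supportDim A M = d := by
  obtain ⟨N, hN⟩ := exists_ringKrullDim_le_natCast A
  have hle := (Module.supportDim_le_ringKrullDim A M).trans hN
  have hne := Module.supportDim_ne_bot_iff_nontrivial A M |>.mpr ‹_›
  match h : Module.supportDim A M, hle, hne with
  | ⊥, _, hne => exact absurd rfl hne
  | ((⊤ : ℕ∞) : WithBot ℕ∞), hle, _ =>
    exact absurd (WithBot.coe_le_coe.mp hle) (not_le.mpr (ENat.natCast_lt_top N))
  | ((n : ℕ) : ℕ∞), _, _ => exact ⟨n, rfl⟩

end SemiLocal

omit [IsNoetherianRing A] in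
theorem nontrivial_quotient_of_mem_jacobson {M : Type u} [AddCommGroup M] [Module A M]
    [Module.Finite A M] [Nontrivial M] {J : Ideal A} (hJ : J ≤ Ring.jacobson A) :
    Nontrivial (M ⧸ (J • (⊤ : Submodule A M))) := by
  rw [Submodule.Quotient.nontrivial_iff]
  intro h
  have := Submodule.eq_bot_of_le_smul_of_le_jacobson_bot J ⊤ Module.Finite.fg_top h.ge
    (by rwa [Ideal.jacobson_bot])
  exact top_ne_bot this

omit [IsNoetherianRing A] in
theorem ofList_le_jacobson {xs : List A} (hxs : ∀ x ∈ xs, x ∈ Ring.jacobson A) :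
    Ideal.ofList xs ≤ Ring.jacobson A := Ideal.span_le.mpr hxs

/-- `dim M ≤ dim M/(xs)M + length xs` for elements of the radical. -/
theorem supportDim_le_quotient_add_length :
    ∀ (xs : List A) (M : Type u) [AddCommGroup M] [Module A M] [Module.Finite A M],
      (∀ x ∈ xs, x ∈ Ring.jacobson A) →
      Module.supportDim A M ≤
        Module.supportDim A (M ⧸ (Ideal.ofList xs • (⊤ : Submodule A M))) + (xs.length : ℕ) := by
  intro xs
  induction xs with
  | nil =>
    intro M _ _ _ _
    rw [List.length_nil, Nat.cast_zero, add_zero,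
      Module.supportDim_eq_of_equiv (Submodule.quotEquivOfEqBot (Ideal.ofList ([] : List A) • (⊤ : Submodule A M))
        (by rw [Ideal.ofList_nil, Submodule.bot_smul])).symm]
  | cons x xs ih =>
    intro M _ _ _ h
    have hx := h x List.mem_cons_self
    have h1 := Module.supportDim_le_supportDim_quotSMulTop_succ_of_mem_jacobson (M := M) (x := x)
      (Ideal.jacobson_mono bot_le (by rwa [Ideal.jacobson_bot]))
    have h2 := ih (QuotSMulTop x M) fun y hy => h y (List.mem_cons_of_mem _ hy)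
    refine h1.trans ((add_le_add h2 le_rfl).trans ?_)
    rw [Module.supportDim_eq_of_equiv (Submodule.quotOfListConsSMulTopEquivQuotSMulTopInner M x xs),
      List.length_cons, Nat.cast_add, Nat.cast_one, add_assoc]

theorem isFiniteLength_iff_supportDim_le_zero (M : Type u) [AddCommGroup M] [Module A M]
    [Module.Finite A M] : IsFiniteLength A M ↔ Module.supportDim A M ≤ 0 := by
  rw [← Groth.Agent.S16234.result A M]
  constructor
  · intro h
    refine iSup_le fun l => ?_
    by_contra hl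
    have hpos : 0 < l.length := by
      rcases Nat.eq_zero_or_pos l.length with h0 | h0
      · rw [h0] at hl; exact absurd (le_of_eq (by simp)) hl
      · exact h0
    have hlt : (l 0).1 < (l ⟨1, by omega⟩).1 :=
      LTSeries.strictMono l (show (0 : Fin (l.length + 1)) < ⟨1, by omega⟩ from Nat.zero_lt_one)
    exact hlt.ne (PrimeSpectrum.ext ((h _ (l 0).2).eq_of_le (l ⟨1, by omega⟩).1.isPrime.ne_top hlt.le))
  · intro h p hp
    obtain ⟨m, hm, hle⟩ := Ideal.exists_le_maximal p.asIdeal p.isPrime.ne_top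
    by_contra hmax
    let q : PrimeSpectrum A := ⟨m, hm.isPrime⟩
    have hlt : p < q := lt_of_le_of_ne hle fun e => hmax (by rw [e]; exact hm)
    have hq : q ∈ Module.support A M := Module.mem_support_mono hle hp
    let l : LTSeries ↥(Module.support A M) :=
      (RelSeries.singleton _ ⟨p, hp⟩).snoc ⟨q, hq⟩ (by simpa using hlt)
    have := (Order.LTSeries.length_le_krullDim l).trans h
    simp [l] at this
    exact absurd this (not_le.mpr zero_lt_one)

theorem mem_minimalPrimes_of_ringKrullDim_eq {M : Type u} [AddCommGroup M] [Module A M]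
    [Module.Finite A M] {d : ℕ} (hd : Module.supportDim A M = d) {p : PrimeSpectrum A}
    (hp : p ∈ Module.support A M) (h : ringKrullDim (A ⧸ p.asIdeal) = d) :
    p.asIdeal ∈ (Module.annihilator A M).minimalPrimes := by
  refine ⟨⟨p.isPrime, Module.mem_support_iff_of_finite.mp hp⟩, fun q ⟨hq, hle⟩ hqp => ?_⟩
  by_contra hpq
  have hlt : q < p.asIdeal := lt_of_le_not_ge hqp hpq
  haveI := p.isPrime
  obtain ⟨a, ha, haq⟩ := SetLike.exists_of_lt hlt
  have hnz : Ideal.Quotient.mk q a ∈ nonZeroDivisors (A ⧸ q) :=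
    mem_nonZeroDivisors_of_ne_zero (by simpa [Ideal.Quotient.eq_zero_iff_mem] using haq)
  have h1 : ringKrullDim (A ⧸ p.asIdeal) + 1 ≤ ringKrullDim (A ⧸ q) := by
    refine le_trans (add_le_add (ringKrullDim_le_of_surjective
      (Ideal.Quotient.lift (Ideal.span {Ideal.Quotient.mk q a}) (Ideal.Quotient.factor hqp) ?_) ?_) le_rfl)
      (ringKrullDim_quotient_succ_le_of_nonZeroDivisor hnz)
    · intro b hb
      obtain ⟨c, rfl⟩ := Ideal.mem_span_singleton.mp hb
      rw [map_mul, Ideal.Quotient.factor_mk, Ideal.Quotient.eq_zero_iff_mem.mpr ha, zero_mul]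
    · exact Ideal.Quotient.lift_surjective_of_surjective _ _ (Ideal.Quotient.factor_surjective hqp)
  have h2 : ringKrullDim (A ⧸ q) ≤ d := by
    rw [← hd, Module.supportDim_eq_ringKrullDim_quotient_annihilator]
    exact ringKrullDim_le_of_surjective (Ideal.Quotient.factor hle) (Ideal.Quotient.factor_surjective hle)
  rw [h] at h1
  have : d + 1 ≤ d := by exact_mod_cast h1.trans h2
  omega

omit [IsNoetherianRing A] in
theorem not_jacobson_le [Finite (MaximalSpectrum A)] {p : Ideal A} [p.IsPrime] (hp : ¬ p.IsMaximal) :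
    ¬ Ring.jacobson A ≤ p := by
  haveI := Fintype.ofFinite (MaximalSpectrum A)
  intro h
  have hinf : (Finset.univ.inf fun m : MaximalSpectrum A => m.asIdeal) ≤ p := by
    refine le_trans ?_ h
    rw [← Ideal.jacobson_bot]
    exact le_sInf fun J hJ => Finset.inf_le (f := fun m : MaximalSpectrum A => m.asIdeal)
      (Finset.mem_univ ⟨J, hJ.2⟩)
  obtain ⟨m, -, hm⟩ := (Ideal.IsPrime.inf_le' ‹p.IsPrime›).mp hinf
  exact hp (m.isMaximal.eq_of_le (Ideal.IsPrime.ne_top ‹_›) hm ▸ m.isMaximal)

omit [IsNoetherianRing A] in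
theorem exists_mem_forall_notMem {I : Ideal A} {S : Set (Ideal A)} (hS : S.Finite)
    (hprime : ∀ p ∈ S, p.IsPrime) (h : ∀ p ∈ S, ¬ I ≤ p) : ∃ x ∈ I, ∀ p ∈ S, x ∉ p := by
  by_contra hc
  push Not at hc
  have hsub : (I : Set A) ⊆ ⋃ p ∈ S, (p : Set A) := fun x hx => by
    obtain ⟨p, hp, hxp⟩ := hc x hx
    exact Set.mem_biUnion hp hxp
  obtain ⟨p, hp, hle⟩ := (Ideal.subset_union_prime_finite hS ⊤ ⊤
    (fun p hp _ _ => hprime p hp)).mp hsub
  exact h p hp hle

variable [Finite (MaximalSpectrum A)]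

/-- A module of positive dimension has a radical element dropping the dimension. -/
theorem exists_mem_jacobson_supportDim_drop {M : Type u} [AddCommGroup M] [Module A M]
    [Module.Finite A M] {d : ℕ} (hd : Module.supportDim A M = (d + 1 : ℕ)) :
    ∃ x ∈ Ring.jacobson A, Module.supportDim A (QuotSMulTop x M) + 1 = Module.supportDim A M := by
  let S : Set (Ideal A) := {p | p ∈ (Module.annihilator A M).minimalPrimes ∧ ¬ p.IsMaximal}
  have hS : S.Finite := (Ideal.finite_minimalPrimes_of_isNoetherianRing _ _).subset fun p hp => hp.1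
  obtain ⟨x, hx, hxS⟩ := exists_mem_forall_notMem (I := Ring.jacobson A) hS
    (fun p hp => hp.1.1.1) (fun p hp => by haveI := hp.1.1.1; exact not_jacobson_le hp.2)
  refine ⟨x, hx, (Groth.Agent.S5767.result A M x hx).mpr fun p hp hpd => hxS _ ⟨?_, ?_⟩⟩
  · exact mem_minimalPrimes_of_ringKrullDim_eq hd hp (hpd.trans hd)
  · intro hmax
    haveI := hmax
    rw [ringKrullDim_eq_zero_of_isField ((Ideal.Quotient.maximal_ideal_iff_isField_quotient _).mp hmax),
      hd] at hpd
    exact absurd hpd (by exact_mod_cast (Nat.succ_ne_zero d).symm)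

/-- Systems of parameters exist. -/
theorem exists_parameters (d : ℕ) : ∀ (M : Type u) [AddCommGroup M] [Module A M] [Module.Finite A M],
    Module.supportDim A M ≤ d → (0 : WithBot ℕ∞) ≤ Module.supportDim A M →
    ∃ ys : List A, (∀ y ∈ ys, y ∈ Ring.jacobson A) ∧ (ys.length : WithBot ℕ∞) = Module.supportDim A M ∧
      IsFiniteLength A (M ⧸ (Ideal.ofList ys • (⊤ : Submodule A M))) := by
  induction d with
  | zero =>
    intro M _ _ _ h h0
    refine ⟨[], by simp, ?_, (isFiniteLength_iff_supportDim_le_zero _).mpr ?_⟩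
    · rw [List.length_nil, Nat.cast_zero]; exact le_antisymm h0 (by simpa using h)
    · exact (Module.supportDim_le_of_surjective _ (Submodule.mkQ_surjective _)).trans (by simpa using h)
  | succ d ih =>
    intro M _ _ _ h h0
    by_cases hle : Module.supportDim A M ≤ d
    · exact ih M hle h0
    haveI : Nontrivial M := (Module.supportDim_ne_bot_iff_nontrivial A M).mp fun e => by
      rw [e] at h0; simp at h0
    obtain ⟨e, he⟩ := exists_supportDim_eq_natCast (A := A) M
    obtain rfl : e = d + 1 := by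
      rw [he] at h hle
      have h1 : e ≤ d + 1 := by exact_mod_cast h
      have h2 : ¬ e ≤ d := fun hh => hle (by exact_mod_cast hh)
      omega
    obtain ⟨x, hx, hdrop⟩ := exists_mem_jacobson_supportDim_drop he
    have hQ : Module.supportDim A (QuotSMulTop x M) = (d : ℕ) := by
      rw [he] at hdrop
      have hn := nontrivial_quotient_of_mem_jacobson (M := M)
        ((Ideal.span_singleton_le_iff_mem _).mpr hx)
      rw [Submodule.ideal_span_singleton_smul] at hn
      obtain ⟨q, hq⟩ := exists_supportDim_eq_natCast (A := A) (QuotSMulTop x M)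
      rw [hq] at hdrop ⊢
      have : q + 1 = d + 1 := by exact_mod_cast hdrop
      exact_mod_cast (by omega : q = d)
    obtain ⟨ys, hys, hlen, hfl⟩ := ih (QuotSMulTop x M) hQ.le (by rw [hQ]; exact_mod_cast Nat.zero_le d)
    refine ⟨x :: ys, ?_, ?_, ?_⟩
    · intro y hy
      rcases List.mem_cons.mp hy with rfl | hy
      exacts [hx, hys y hy]
    · rw [List.length_cons, Nat.cast_add, hlen, hQ, he]; push_cast; rfl
    · rw [isFiniteLength_iff_supportDim_le_zero] at hfl ⊢
      rwa [Module.supportDim_eq_of_equiv (Submodule.quotOfListConsSMulTopEquivQuotSMulTopInner M x ys)]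

theorem supportDim_quotient_ideal {A : Type u} [CommRing A] (I : Ideal A) :
    Module.supportDim A (A ⧸ I) = ringKrullDim (A ⧸ I) := by
  rw [Module.supportDim_eq_ringKrullDim_quotient_annihilator, Ideal.annihilator_quotient]

theorem height_map_mk {A : Type u} [CommRing A] {J Q : Ideal A} [hQ : Q.IsPrime] (h : J ≤ Q) :
    (Q.map (Ideal.Quotient.mk J)).height =
      Order.height (⟨⟨Q, hQ⟩, fun _ hx => h hx⟩ : PrimeSpectrum.zeroLocus (J : Set A)) := by
  haveI : (Q.map (Ideal.Quotient.mk J)).IsPrime :=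
    Ideal.map_isPrime_of_surjective Ideal.Quotient.mk_surjective (by rwa [Ideal.mk_ker])
  let P : PrimeSpectrum (A ⧸ J) := ⟨Q.map (Ideal.Quotient.mk J), inferInstance⟩
  have : J.primeSpectrumQuotientOrderIsoZeroLocus P = ⟨⟨Q, hQ⟩, fun _ hx => h hx⟩ := by
    refine Subtype.ext (PrimeSpectrum.ext ?_)
    show (Q.map (Ideal.Quotient.mk J)).comap (Ideal.Quotient.mk J) = Q
    rw [Ideal.comap_map_of_surjective' _ Ideal.Quotient.mk_surjective, Ideal.mk_ker, sup_eq_left.mpr h]
  rw [← this, Order.height_orderIso]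
  exact PrimeSpectrum.height_eq_orderHeight P

theorem height_map_mk_succ_le {A : Type u} [CommRing A] {J Q a : Ideal A} [hQ : Q.IsPrime] {y : A}
    {i h : ℕ} (hJQ : J ≤ Q) (hyQ : J ⊔ Ideal.span {y} ≤ Q) (hmin : ∀ P ∈ J.minimalPrimes, ¬ a ≤ P)
    (hya : y ∈ a) (haQ : a ≤ Q)
    (hyS : ∀ P ∈ {P | P ∈ J.minimalPrimes ∧ ¬ P.IsMaximal}, y ∉ P)
    (hht : (Q.map (Ideal.Quotient.mk J)).height + i ≤ h) :
    (Q.map (Ideal.Quotient.mk (J ⊔ Ideal.span {y}))).height + (i + 1 : ℕ) ≤ h := by
  rw [height_map_mk hJQ] at hht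
  rw [height_map_mk hyQ]
  set xT : PrimeSpectrum.zeroLocus (J : Set A) := ⟨⟨Q, hQ⟩, fun _ hx => hJQ hx⟩
  set xT' : PrimeSpectrum.zeroLocus ((J ⊔ Ideal.span {y} : Ideal A) : Set A) :=
    ⟨⟨Q, hQ⟩, fun _ hx => hyQ hx⟩
  -- prolong a chain by a minimal prime of `J`
  have key : ∀ l : LTSeries (PrimeSpectrum.zeroLocus ((J ⊔ Ideal.span {y} : Ideal A) : Set A)),
      l.last = xT' → ((l.length + 1 : ℕ) : ℕ∞) ≤ Order.height xT := by
    intro l hl
    have hhead : l.head.1 ≤ (⟨Q, hQ⟩ : PrimeSpectrum A) := by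
      have := LTSeries.head_le_last l
      rw [hl] at this
      exact this
    obtain ⟨P, hP, hPh⟩ := Ideal.exists_minimalPrimes_le
      (le_trans le_sup_left (show J ⊔ Ideal.span {y} ≤ l.head.1.asIdeal from l.head.2))
    have hyh : y ∈ l.head.1.asIdeal :=
      l.head.2 (Ideal.mem_sup_right (Ideal.mem_span_singleton_self y))
    have hne : P ≠ l.head.1.asIdeal := by
      intro e
      by_cases hmax : P.IsMaximal
      · have : P = Q := hmax.eq_of_le hQ.ne_top (e ▸ (PrimeSpectrum.asIdeal_le_asIdeal _ _).mpr hhead)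
        exact hmin P hP (this ▸ haQ)
      · exact hyS P ⟨hP, hmax⟩ (e ▸ hyh)
    let p0 : PrimeSpectrum.zeroLocus (J : Set A) := ⟨⟨P, hP.1.1⟩, fun _ hx => hP.1.2 hx⟩
    let l' : LTSeries (PrimeSpectrum.zeroLocus (J : Set A)) :=
      l.map (fun q => ⟨q.1, fun _ hx => q.2 (Ideal.mem_sup_left hx)⟩) (fun _ _ h => h)
    have hlt : p0 < l'.head := by
      show (⟨P, hP.1.1⟩ : PrimeSpectrum A) < l.head.1
      exact lt_of_le_of_ne hPh (fun e => hne (congrArg PrimeSpectrum.asIdeal e))
    have := Order.length_le_height (p := l'.cons p0 hlt) (x := xT) (by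
      rw [RelSeries.last_cons]
      show (l.last).1 ≤ (⟨Q, hQ⟩ : PrimeSpectrum A)
      rw [hl])
    rw [RelSeries.cons_length, show l'.length = l.length from rfl] at this
    exact_mod_cast this
  have hfin : Order.height xT ≠ ⊤ := fun e => by
    rw [e, top_add] at hht
    exact absurd hht (not_le.mpr (ENat.natCast_lt_top h))
  obtain ⟨n, hn⟩ := ENat.ne_top_iff_exists.mp hfin
  have h1 : Order.height xT' ≤ (n - 1 : ℕ) := Order.height_le fun l hl => by
    have := key l hl
    rw [← hn] at this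
    have : l.length + 1 ≤ n := by exact_mod_cast this
    exact_mod_cast (by omega : l.length ≤ n - 1)
  have h2 := key (RelSeries.singleton _ xT') rfl
  rw [← hn] at h2 hht
  refine (add_le_add h1 le_rfl).trans ?_
  have h3 : 1 ≤ n := by simpa using h2
  have h4 : n + i ≤ h := by exact_mod_cast hht
  exact_mod_cast (by omega : (n - 1) + (i + 1) ≤ h)

theorem ringKrullDim_quotient_sup_drop {A : Type u} [CommRing A] [IsNoetherianRing A]
    [Finite (MaximalSpectrum A)] {J Q : Ideal A} [Q.IsPrime] {y : A} (hJQ : J ≤ Q)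
    (hyj : y ∈ Ring.jacobson A)
    (hyS : ∀ P ∈ {P | P ∈ J.minimalPrimes ∧ ¬ P.IsMaximal}, y ∉ P)
    (hpos : ¬ ∀ P : Ideal A, P.IsPrime → J ≤ P → P ∈ J.minimalPrimes) :
    ringKrullDim (A ⧸ (J ⊔ Ideal.span {y})) + 1 = ringKrullDim (A ⧸ J) := by
  haveI : Nontrivial (A ⧸ J) :=
    Ideal.Quotient.nontrivial_iff.mpr (ne_top_of_le_ne_top (Ideal.IsPrime.ne_top ‹_›) hJQ)
  have hQ : Module.supportDim A (QuotSMulTop y (A ⧸ J)) = ringKrullDim (A ⧸ (J ⊔ Ideal.span {y})) := by
    rw [Module.supportDim, Module.support_quotSMulTop, Module.support_eq_zeroLocus,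
      Ideal.annihilator_quotient, ← PrimeSpectrum.zeroLocus_span {y}, ← PrimeSpectrum.zeroLocus_sup,
      ringKrullDim_quotient]
  rw [← hQ, ← supportDim_quotient_ideal J]
  obtain ⟨d, hd⟩ := exists_supportDim_eq_natCast (A := A) (A ⧸ J)
  refine (Groth.Agent.S5767.result A (A ⧸ J) y hyj).mpr fun p hp hpd => ?_
  have hmin := mem_minimalPrimes_of_ringKrullDim_eq hd hp (hpd.trans hd)
  rw [Ideal.annihilator_quotient] at hmin
  refine hyS _ ⟨hmin, fun hmax => hpos fun P hP hJP => ?_⟩
  -- dimension zero: all primes over `J` are minimal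
  haveI := hmax
  rw [ringKrullDim_eq_zero_of_isField ((Ideal.Quotient.maximal_ideal_iff_isField_quotient _).mp hmax),
    supportDim_quotient_ideal] at hpd
  refine ⟨⟨hP, hJP⟩, fun R ⟨hR, hJR⟩ hRP => ?_⟩
  by_contra hne
  have hlt : R < P := lt_of_le_not_ge hRP hne
  let r0 : PrimeSpectrum.zeroLocus (J : Set A) := ⟨⟨R, hR⟩, fun _ hx => hJR hx⟩
  let p0 : PrimeSpectrum.zeroLocus (J : Set A) := ⟨⟨P, hP⟩, fun _ hx => hJP hx⟩
  have hlt0 : r0 < p0 := hlt
  let l : LTSeries (PrimeSpectrum.zeroLocus (J : Set A)) :=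
    (RelSeries.singleton _ r0).snoc p0 (by simpa using hlt0)
  have := Order.LTSeries.length_le_krullDim l
  rw [← ringKrullDim_quotient, ← hpd] at this
  simp [l] at this
  exact absurd this (not_le.mpr zero_lt_one)

end Groth.Agent.EGA41Lib
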