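import Mathlib
import Groth.Agent.RegLoc.Completion
import Groth.Agent.RegLoc.Homological

/-!
Regularity of power series rings and of adic completions.
-/

set_option autoImplicit false
set_option linter.style.haveILetI false
universe u

open IsLocalRing

namespace Groth.Agent.EGA41Lib

/-- Regularity may be tested at maximal ideals. -/
theorem isRegularRing_of_forall_maximal {R : Type u} [CommRing R] [IsNoetherianRing R]
    (h : ∀ M : Ideal R, ∀ _ : M.IsMaximal, IsRegularLocalRing (Localization.AtPrime M)) :
    IsRegularRing R := by
  refine isRegularRing_iff.mpr fun p hp => ?_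
  obtain ⟨M, hM, hle⟩ := Ideal.exists_le_maximal p hp.ne_top
  haveI := h M hM
  let S := Localization.AtPrime M
  let pS := p.map (algebraMap R S)
  have disj : Disjoint (M.primeCompl : Set R) (p : Set R) :=
    Set.disjoint_left.mpr fun x hx hxp => hx (hle hxp)
  haveI : pS.IsPrime := IsLocalization.isPrime_of_isPrime_disjoint M.primeCompl _ _ hp disj
  haveI : IsLocalization.AtPrime (Localization.AtPrime pS) p := by
    convert IsLocalization.isLocalization_isLocalization_atPrime_isLocalization M.primeCompl
      (Localization.AtPrime pS) pS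
    exact (IsLocalization.under_map_of_isPrime_disjoint M.primeCompl _ hp disj).symm
  haveI := RegLoc.Homological.isRegularLocalRing_localization (R := S) pS
  exact IsRegularLocalRing.of_ringEquiv (IsLocalization.algEquiv p.primeCompl
    (Localization.AtPrime pS) (Localization.AtPrime p)).toRingEquiv

/-- `S_M` is regular if `M` is generated by `m = M ∩ R` and `k` elements, with `ht M ≥ ht m + k`. -/
theorem isRegularLocalRing_atPrime_of_gens {R S : Type u} [CommRing R] [CommRing S] [Algebra R S]
    [IsNoetherianRing S] [IsNoetherianRing R] (M : Ideal S) [M.IsPrime] (m : Ideal R) [m.IsPrime]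
    (hm : M.comap (algebraMap R S) = m) [IsRegularLocalRing (Localization.AtPrime m)]
    (s : Finset S) (hgen : M ≤ m.map (algebraMap R S) ⊔ Ideal.span (s : Set S))
    (hsM : (s : Set S) ⊆ M) (hh : m.height + s.card ≤ M.height) :
    IsRegularLocalRing (Localization.AtPrime M) := by
  classical
  let f : Localization.AtPrime m →+* Localization.AtPrime M :=
    Localization.localRingHom m M (algebraMap R S) hm.symm
  obtain ⟨t, htcard, htspan⟩ := Submodule.FG.exists_span_finset_card_eq_spanFinrank
    (IsNoetherian.noetherian (maximalIdeal (Localization.AtPrime m)))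
  have hmap : maximalIdeal (Localization.AtPrime M) =
      Ideal.span (((t.image f) ∪ s.image (algebraMap S (Localization.AtPrime M)) : Finset _) : Set _) := by
    rw [Finset.coe_union, Finset.coe_image, Finset.coe_image, Ideal.span_union, ← Ideal.map_span,
      ← Ideal.map_span, show Ideal.span (t : Set _) = maximalIdeal (Localization.AtPrime m) from htspan,
      ← Localization.AtPrime.map_eq_maximalIdeal (I := m), Ideal.map_map]
    have hf : f.comp (algebraMap R (Localization.AtPrime m)) =
        (algebraMap S (Localization.AtPrime M)).comp (algebraMap R S) :=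
      RingHom.ext fun r => Localization.localRingHom_to_map m M (algebraMap R S) hm.symm r
    rw [hf, ← Ideal.map_map, ← Ideal.map_sup, ← Localization.AtPrime.map_eq_maximalIdeal (I := M)]
    refine le_antisymm (Ideal.map_mono hgen) (Ideal.map_mono (sup_le ?_ (Ideal.span_le.mpr hsM)))
    exact Ideal.map_le_iff_le_comap.mpr hm.ge
  refine IsRegularLocalRing.of_spanFinrank_maximalIdeal_le _ ?_
  rw [IsLocalization.AtPrime.ringKrullDim_eq_height M (Localization.AtPrime M)]
  refine le_trans ?_ (WithBot.coe_le_coe.mpr hh)
  rw [WithBot.coe_add, ← IsLocalization.AtPrime.ringKrullDim_eq_height m (Localization.AtPrime m),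
    ← (isRegularLocalRing_iff _).mp ‹_›, ← htcard]
  have h1 : (maximalIdeal (Localization.AtPrime M)).spanFinrank ≤ t.card + s.card := by
    rw [hmap]
    refine (Submodule.spanFinrank_span_le_ncard_of_finite (Finset.finite_toSet _)).trans ?_
    rw [Set.ncard_coe_finset]
    exact (Finset.card_union_le _ _).trans (add_le_add Finset.card_image_le Finset.card_image_le)
  exact_mod_cast h1

/-- `A⟦X⟧` is regular if `A` is. -/
theorem isRegularRing_powerSeries (R : Type u) [CommRing R] [IsRegularRing R] :
    IsRegularRing (PowerSeries R) := by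
  refine isRegularRing_of_forall_maximal fun M hM => ?_
  have hX : (PowerSeries.X : PowerSeries R) ∈ M := by
    have hj : Ideal.span {(PowerSeries.X : PowerSeries R)} ≤ (⊥ : Ideal (PowerSeries R)).jacobson :=
      IsAdicComplete.le_jacobson_bot _
    exact sInf_le (show M ∈ {J : Ideal (PowerSeries R) | ⊥ ≤ J ∧ J.IsMaximal} from ⟨bot_le, hM⟩)
      (hj (Ideal.mem_span_singleton_self _))
  set m := M.comap (algebraMap R (PowerSeries R)) with hm
  haveI : m.IsPrime := Ideal.comap_isPrime _ M
  haveI := (isRegularRing_iff.mp ‹IsRegularRing R›) m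
  have hgen : ∀ f : PowerSeries R, f ∈ M ↔ PowerSeries.constantCoeff f ∈ m := by
    intro f
    have hdiff : f - PowerSeries.C (PowerSeries.constantCoeff f) ∈ M := by
      obtain ⟨g, hg⟩ : (PowerSeries.X : PowerSeries R) ∣ f - PowerSeries.C (PowerSeries.constantCoeff f) :=
        PowerSeries.X_dvd_iff.mpr (by simp)
      rw [hg]; exact M.mul_mem_right g hX
    show f ∈ M ↔ PowerSeries.C (PowerSeries.constantCoeff f) ∈ M
    refine ⟨fun hf => ?_, fun hc => ?_⟩
    · have := M.sub_mem hf hdiff
      simpa using this
    · have := M.add_mem hdiff hc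
      simpa using this
  refine isRegularLocalRing_atPrime_of_gens (R := R) M m hm.symm {PowerSeries.X} ?_ ?_ ?_
  · intro f hf
    obtain ⟨g, hg⟩ : (PowerSeries.X : PowerSeries R) ∣ f - PowerSeries.C (PowerSeries.constantCoeff f) :=
      PowerSeries.X_dvd_iff.mpr (by simp)
    refine Submodule.mem_sup.mpr ⟨PowerSeries.C (PowerSeries.constantCoeff f),
      Ideal.mem_map_of_mem (algebraMap R (PowerSeries R)) ((hgen f).mp hf), PowerSeries.X * g,
      Ideal.mul_mem_right g _ (Ideal.subset_span (by simp)), by rw [← hg]; ring⟩
  · simpa using hX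
  · -- `M` is strictly above the contraction chain
    simp only [Finset.card_singleton, Nat.cast_one]
    let g : PrimeSpectrum R → PrimeSpectrum (PowerSeries R) := PrimeSpectrum.comap PowerSeries.constantCoeff
    have hg : StrictMono g := Monotone.strictMono_of_injective (fun p q h => Ideal.comap_mono h)
      (PrimeSpectrum.comap_injective_of_surjective _ PowerSeries.constantCoeff_surj)
    let P : PrimeSpectrum R := ⟨m, inferInstance⟩
    have hgP : g P = ⟨M, hM.isPrime⟩ := PrimeSpectrum.ext (Ideal.ext fun f => (hgen f).symm)
    have hk : ∀ l : LTSeries (PrimeSpectrum R), l.last = P → ((l.length + 1 : ℕ) : ℕ∞) ≤ M.height := by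
      intro l hl
      obtain ⟨q, hq, hql⟩ := Ideal.exists_minimalPrimes_le (J := (g l.head).asIdeal) bot_le
      have hne : (⟨q, hq.1.1⟩ : PrimeSpectrum (PowerSeries R)) < (l.map g hg).head := by
        refine lt_of_le_of_ne hql fun e => ?_
        have hXq : (PowerSeries.X : PowerSeries R) ∈ q := by
          rw [show q = (g l.head).asIdeal from congrArg PrimeSpectrum.asIdeal e]
          show PowerSeries.constantCoeff PowerSeries.X ∈ l.head.asIdeal
          simp
        refine Set.disjoint_left.mp (Ideal.disjoint_nonZeroDivisors_of_mem_minimalPrimes hq) hXq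
          (mem_nonZeroDivisors_iff_right.mpr fun f hf => ?_)
        ext n
        simpa using congrArg (PowerSeries.coeff (n + 1)) hf
      have := Order.length_le_height (p := (l.map g hg).cons _ hne) (x := (⟨M, hM.isPrime⟩ : PrimeSpectrum _))
        (by rw [RelSeries.last_cons, LTSeries.last_map, hl, hgP])
      rw [RelSeries.cons_length, show (l.map g hg).length = l.length from rfl,
        ← PrimeSpectrum.height_eq_orderHeight] at this
      exact_mod_cast this
    rw [show m.height = Order.height P from PrimeSpectrum.height_eq_orderHeight P]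
    have hfin : Order.height P ≠ ⊤ := by
      rw [← PrimeSpectrum.height_eq_orderHeight]; exact Ideal.height_ne_top (Ideal.IsPrime.ne_top ‹_›)
    obtain ⟨n, hn⟩ := ENat.ne_top_iff_exists.mp hfin
    obtain ⟨l, hl, hlen⟩ := Order.exists_series_of_height_eq_coe P hn.symm
    rw [← hn, ← hlen]
    exact_mod_cast hk l hl

theorem isRegularRing_mvPowerSeries (R : Type u) [CommRing R] [IsRegularRing R] :
    ∀ n : ℕ, IsRegularRing (MvPowerSeries (Fin n) R) := by
  intro n
  induction n with
  | zero => exact IsRegularRing.of_ringEquiv (MvPowerSeries.isEmptyEquiv (Fin 0) R).toRingEquiv.symm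
  | succ n ih =>
    haveI := ih
    haveI := isRegularRing_powerSeries (MvPowerSeries (Fin n) R)
    exact IsRegularRing.of_ringEquiv (MvPowerSeries.finSuccEquiv R n).toRingEquiv.symm

theorem isRegularRing_adicCompletion (R : Type u) [CommRing R] [IsRegularRing R] (J : Ideal R) :
    IsRegularRing (AdicCompletion J R) := by
  have hfg : J.FG := IsNoetherian.noetherian J
  haveI := RegLoc.Completion.isNoetherianRing_adicCompletion' J
  refine isRegularRing_of_forall_maximal fun M hM => ?_
  have hJM : J.map (algebraMap R (AdicCompletion J R)) ≤ M := by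
    haveI : IsAdicComplete (J.map (algebraMap R (AdicCompletion J R))) (AdicCompletion J R) :=
      (IsAdicComplete.map_algebraMap_iff (I := J) (M := AdicCompletion J R)).mpr (AdicCompletion.isAdicComplete hfg)
    exact (IsAdicComplete.le_jacobson_bot _).trans
      (sInf_le (show M ∈ {K : Ideal (AdicCompletion J R) | ⊥ ≤ K ∧ K.IsMaximal} from ⟨bot_le, hM⟩))
  set m := M.comap (algebraMap R (AdicCompletion J R)) with hm
  haveI : m.IsPrime := Ideal.comap_isPrime _ M
  haveI := (isRegularRing_iff.mp ‹IsRegularRing R›) m
  refine isRegularLocalRing_atPrime_of_gens (R := R) M m hm.symm ∅ ?_ (by simp) ?_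
  · intro y hy
    obtain ⟨a, ha⟩ := Ideal.Quotient.mk_surjective (AdicCompletion.evalOneₐ J y)
    have hsub : y - algebraMap R (AdicCompletion J R) a ∈ J.map (algebraMap R (AdicCompletion J R)) := by
      rw [← AdicCompletion.ker_evalOneₐ_eq_map J hfg]
      show AdicCompletion.evalOneₐ J (y - algebraMap R (AdicCompletion J R) a) = 0
      rw [map_sub, AlgHom.commutes, Ideal.Quotient.algebraMap_eq, ha, sub_self]
    have ham : a ∈ m := by
      rw [hm, Ideal.mem_comap]
      simpa using M.sub_mem hy (hJM hsub)
    have hJm : J ≤ m := Ideal.map_le_iff_le_comap.mp hJM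
    rw [Finset.coe_empty, Ideal.span_empty, sup_bot_eq]
    simpa using Ideal.add_mem _ (Ideal.map_mono hJm hsub) (Ideal.mem_map_of_mem (algebraMap R (AdicCompletion J R)) ham)
  · rw [Finset.card_empty, Nat.cast_zero, add_zero]
    haveI : M.LiesOver m := ⟨rfl⟩
    rw [Ideal.height_eq_height_add_of_liesOver_of_hasGoingDown m M]
    exact self_le_add_right _ _

theorem isRegularRing_localization {R : Type u} [CommRing R] [IsRegularRing R] (T : Submonoid R) :
    IsRegularRing (Localization T) := by
  haveI : IsNoetherianRing (Localization T) := IsLocalization.isNoetherianRing T _ inferInstance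
  refine isRegularRing_iff.mpr fun p hp => ?_
  set q := p.comap (algebraMap R (Localization T)) with hq
  haveI : q.IsPrime := Ideal.comap_isPrime _ p
  haveI := (isRegularRing_iff.mp ‹IsRegularRing R›) q
  haveI : IsLocalization.AtPrime (Localization.AtPrime p) q :=
    IsLocalization.isLocalization_isLocalization_atPrime_isLocalization T (Localization.AtPrime p) p
  exact IsRegularLocalRing.of_ringEquiv (IsLocalization.algEquiv q.primeCompl
    (Localization.AtPrime q) (Localization.AtPrime p)).toRingEquiv

end Groth.Agent.EGA41Lib
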