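import Groth.Agent.PSLoc.Basic
import Groth.Agent.VarDim.Algebra
import Mathlib

/-! Jacobians of ideals of power series rings over a field (EGA 0_IV 22.7). -/

universe u

open IsLocalRing

namespace Groth.Agent.EGA41Lib.PSJacobian

variable {k : Type u} [Field k]

/-- Polynomial approximation of power series. -/
theorem exists_poly_sub_mem {σ : Type} [Finite σ] (N : ℕ) (g : MvPowerSeries σ k) :
    ∃ P : MvPolynomial σ k, g - (P : MvPowerSeries σ k) ∈ maximalIdeal (MvPowerSeries σ k) ^ N := by
  classical
  induction N generalizing g with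
  | zero => exact ⟨0, by simp⟩
  | succ N ih =>
    haveI := Fintype.ofFinite σ
    have hg : g - MvPowerSeries.C (MvPowerSeries.constantCoeff g) ∈
        Ideal.span (Set.range (MvPowerSeries.X : σ → MvPowerSeries σ k)) := by
      rw [← PSLoc.maximalIdeal_eq, mem_maximalIdeal, mem_nonunits_iff,
        MvPowerSeries.isUnit_iff_constantCoeff]
      simp
    obtain ⟨h, hh⟩ := (Ideal.mem_span_range_iff_exists_fun).mp hg
    choose P hP using fun i => ih (h i)
    refine ⟨MvPolynomial.C (MvPowerSeries.constantCoeff g) + ∑ i, P i * MvPolynomial.X i, ?_⟩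
    have hco : ((MvPolynomial.C (MvPowerSeries.constantCoeff g) + ∑ i, P i * MvPolynomial.X i :
        MvPolynomial σ k) : MvPowerSeries σ k) =
        MvPowerSeries.C (MvPowerSeries.constantCoeff g) + ∑ i, (P i : MvPowerSeries σ k) * MvPowerSeries.X i := by
      rw [← MvPolynomial.coeToMvPowerSeries.ringHom_apply, map_add, map_sum]
      simp
    rw [hco, show g - (MvPowerSeries.C (MvPowerSeries.constantCoeff g) +
        ∑ i, (P i : MvPowerSeries σ k) * MvPowerSeries.X i) =
        ∑ i, (h i - (P i : MvPowerSeries σ k)) * MvPowerSeries.X i by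
      simp only [sub_mul, Finset.sum_sub_distrib, hh]; ring]
    refine Ideal.sum_mem _ fun i _ => ?_
    rw [pow_succ]
    refine Ideal.mul_mem_mul (hP i) ?_
    rw [PSLoc.maximalIdeal_eq]
    exact Ideal.subset_span (Set.mem_range_self i)

section Lift

variable {σ : Type} (d : k →+ k) (hd : ∀ a b, d (a * b) = a * d b + b * d a)

/-- A derivation of the coefficients, applied coefficientwise. -/
noncomputable def coeffDer : Derivation ℤ (MvPowerSeries σ k) (MvPowerSeries σ k) :=
  Derivation.mk'
    (AddMonoidHom.toIntLinearMap
      { toFun := fun f n => d (f n)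
        map_zero' := funext fun _ => d.map_zero
        map_add' := fun f g => funext fun n => d.map_add (f n) (g n) })
    fun f g => by
      classical
      ext n
      show d (MvPowerSeries.coeff n (f * g)) = _
      rw [MvPowerSeries.coeff_mul, map_sum, map_add, smul_eq_mul, smul_eq_mul, mul_comm g,
        MvPowerSeries.coeff_mul, MvPowerSeries.coeff_mul, ← Finset.sum_add_distrib]
      refine Finset.sum_congr rfl fun x _ => ?_
      rw [hd, mul_comm (MvPowerSeries.coeff x.2 g)]
      rfl

theorem coeffDer_C (a : k) : coeffDer d hd (MvPowerSeries.C a : MvPowerSeries σ k) = MvPowerSeries.C (d a) := by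
  classical
  ext n
  show d (MvPowerSeries.coeff n (MvPowerSeries.C a)) = _
  rw [MvPowerSeries.coeff_C, MvPowerSeries.coeff_C]
  split_ifs <;> simp

end Lift

/-- A derivation killing the coefficients of a polynomial. -/
theorem derivation_eval {R A M : Type*} [CommRing R] [CommRing A] [Algebra R A] [AddCommGroup M]
    [Module A M] [Module R M] (D : Derivation R A M) (P : Polynomial A) (hP : ∀ n, D (P.coeff n) = 0)
    (a : A) : D (P.eval a) = (Polynomial.derivative P).eval a • D a := by
  rw [Polynomial.eval_eq_sum, Polynomial.sum, map_sum, Polynomial.derivative_apply, Polynomial.sum,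
    Polynomial.eval_finsetSum, Finset.sum_smul]
  refine Finset.sum_congr rfl fun n _ => ?_
  rw [D.leibniz, D.leibniz_pow, hP, smul_zero, add_zero, ← Nat.cast_smul_eq_nsmul A, smul_smul, smul_smul]
  simp [mul_assoc]

theorem height_add_dim_le {A : Type*} [CommRing A] (p : Ideal A) [p.IsPrime] :
    ringKrullDim (Localization.AtPrime p) + ringKrullDim (A ⧸ p) ≤ ringKrullDim A := by
  let x : PrimeSpectrum A := ⟨p, ‹_›⟩
  rw [IsLocalization.AtPrime.ringKrullDim_eq_height p,
    show p.height = Order.height x from PrimeSpectrum.height_eq_orderHeight x]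
  have h2 : ringKrullDim (A ⧸ p) ≤ (Order.coheight x : ℕ∞) := by
    rw [Order.coheight_eq_krullDim_Ici]
    refine Order.krullDim_le_of_strictMono
      (fun y : PrimeSpectrum (A ⧸ p) => (⟨PrimeSpectrum.comap (Ideal.Quotient.mk p) y, fun a ha => ?_⟩ : Set.Ici x))
      fun y z hyz => ?_
    · show Ideal.Quotient.mk p a ∈ y.asIdeal
      rw [Ideal.Quotient.eq_zero_iff_mem.mpr ha]
      exact zero_mem _
    · refine lt_of_le_of_ne (Ideal.comap_mono hyz.le) fun h => hyz.ne ?_
      exact PrimeSpectrum.comap_injective_of_surjective _ Ideal.Quotient.mk_surjective (congrArg Subtype.val h)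
  calc ((Order.height x : ℕ∞) : WithBot ℕ∞) + ringKrullDim (A ⧸ p) ≤ (Order.height x : ℕ∞) + (Order.coheight x : ℕ∞) :=
        add_le_add le_rfl h2
    _ ≤ ringKrullDim A := by
        haveI : Nonempty (PrimeSpectrum A) := ⟨x⟩
        rw [ringKrullDim, Order.krullDim_eq_iSup_height_add_coheight_of_nonempty, ← WithBot.coe_add,
          WithBot.coe_le_coe]
        exact le_iSup (fun y : PrimeSpectrum A => Order.height y + Order.coheight y) x

section Rank

variable {r s : ℕ} (p : Ideal (MvPowerSeries (Fin r) k)) [p.IsPrime]
  (L : Type u) [Field L] [Algebra (MvPowerSeries (Fin r) k ⧸ p) L]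
  [Algebra (MvPowerSeries (Fin r) k) L] [IsScalarTower (MvPowerSeries (Fin r) k) (MvPowerSeries (Fin r) k ⧸ p) L]

/-- The gradient modulo `p`, in `L^r`. -/
noncomputable def grad (g : MvPowerSeries (Fin r) k) : Fin r → L :=
  fun i => algebraMap (MvPowerSeries (Fin r) k) L (MvPowerSeries.pderiv k i g)

theorem grad_mul (f g : MvPowerSeries (Fin r) k) :
    grad L (f * g) = algebraMap _ L f • grad L g + algebraMap _ L g • grad L f := by
  ext i; simp [grad, Algebra.smul_def]

theorem grad_X (i : Fin r) : grad L (MvPowerSeries.X i : MvPowerSeries (Fin r) k) = Pi.single i 1 := by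
  ext j
  by_cases h : j = i
  · subst h; simp [grad]
  · simp [grad, h, MvPowerSeries.pderiv_X_of_ne (Ne.symm h)]

set_option maxHeartbeats 800000 in
/-- The Jacobian of `p` has rank at least `r - s`. -/
theorem le_finrank_add
    [IsFractionRing (MvPowerSeries (Fin r) k ⧸ p) L]
    [Algebra (MvPowerSeries (Fin s) k) (MvPowerSeries (Fin r) k ⧸ p)]
    [IsScalarTower k (MvPowerSeries (Fin s) k) (MvPowerSeries (Fin r) k ⧸ p)]
    [Module.Finite (MvPowerSeries (Fin s) k) (MvPowerSeries (Fin r) k ⧸ p)]
    (hinj : Function.Injective (algebraMap (MvPowerSeries (Fin s) k) (MvPowerSeries (Fin r) k ⧸ p)))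
    {L' : Type u} [Field L'] [Algebra (MvPowerSeries (Fin s) k) L'] [IsFractionRing (MvPowerSeries (Fin s) k) L']
    [Algebra L' L] [Algebra (MvPowerSeries (Fin s) k) L]
    [IsScalarTower (MvPowerSeries (Fin s) k) (MvPowerSeries (Fin r) k ⧸ p) L]
    [IsScalarTower (MvPowerSeries (Fin s) k) L' L] [Algebra.IsSeparable L' L]
    (W : Submodule L (Fin r → L)) (hW : ∀ g ∈ p, grad L g ∈ W) :
    r ≤ Module.finrank L W + s := by
  classical
  set A := MvPowerSeries (Fin r) k
  set S := MvPowerSeries (Fin s) k
  let R := A ⧸ p
  haveI : IsLocalRing R := IsLocalRing.of_surjective' (Ideal.Quotient.mk p) Ideal.Quotient.mk_surjective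
  let π : A →+* R := Ideal.Quotient.mk p
  have hπ : Function.Surjective π := Ideal.Quotient.mk_surjective
  have hX : ∀ j : Fin s, algebraMap S R (MvPowerSeries.X j) ∈ maximalIdeal R := by
    intro j
    have hc : (maximalIdeal R).comap (algebraMap S R) = maximalIdeal S :=
      IsLocalRing.eq_maximalIdeal (Ideal.isMaximal_comap_of_isIntegral_of_isMaximal _)
    rw [← Ideal.mem_comap, hc, PSLoc.maximalIdeal_eq]
    exact Ideal.subset_span (Set.mem_range_self j)
  choose x hx using fun j : Fin s => hπ (algebraMap S R (MvPowerSeries.X j))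
  let gR : A → (Fin r → R) := fun g i => π (MvPowerSeries.pderiv k i g)
  let gD : Derivation k A (Fin r → R) := Derivation.mk'
    { toFun := gR
      map_add' := fun a b => funext fun i => by simp [gR]
      map_smul' := fun c a => funext fun i => by
        show π (MvPowerSeries.pderiv k i (c • a)) = c • π (MvPowerSeries.pderiv k i a)
        rw [(MvPowerSeries.pderiv k i).map_smul]
        rfl }
    fun a b => funext fun i => by simp [gR, π, Algebra.smul_def]; rfl
  let N : Submodule R (Fin r → R) := Submodule.span R (gR '' (p : Set A)) ⊔ Submodule.span R (Set.range fun j => gR (x j))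
  have hNp : ∀ a b, π a = π b → gR a ∈ N → gR b ∈ N := by
    intro a b hab ha
    have hm : gR (a - b) ∈ N :=
      Submodule.mem_sup_left (Submodule.subset_span ⟨_, Ideal.Quotient.eq.mp hab, rfl⟩)
    have : gR b = gR a - gR (a - b) := by
      show gD b = gD a - gD (a - b)
      rw [map_sub, sub_sub_cancel]
    rw [this]
    exact N.sub_mem ha hm
  have hgmul : ∀ a b, gR (a * b) = π a • gR b + π b • gR a := fun a b => funext fun i => by
    simp [gR, π]
  have hpoly : ∀ P : MvPolynomial (Fin s) k, gR (MvPolynomial.aeval x P) ∈ N := by
    intro P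
    induction P using MvPolynomial.induction_on with
    | C c =>
      rw [MvPolynomial.aeval_C]
      show gD _ ∈ N
      rw [Derivation.map_algebraMap]
      exact N.zero_mem
    | add P Q hP hQ =>
      rw [map_add]
      show gD _ ∈ N
      rw [map_add]
      exact N.add_mem hP hQ
    | mul_X P j hP =>
      rw [map_mul, MvPolynomial.aeval_X, hgmul]
      exact N.add_mem (N.smul_mem _ (Submodule.mem_sup_right (Submodule.subset_span ⟨j, rfl⟩))) (N.smul_mem _ hP)
  have hcomm : ∀ P : MvPolynomial (Fin s) k, π (MvPolynomial.aeval x P) = algebraMap S R (P : S) := by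
    intro P
    induction P using MvPolynomial.induction_on with
    | C c =>
      rw [MvPolynomial.aeval_C, MvPolynomial.coe_C]
      show π (algebraMap k A c) = algebraMap S R (algebraMap k S c)
      rw [← IsScalarTower.algebraMap_apply k S R]
      rfl
    | add P Q hP hQ => rw [map_add, map_add, MvPolynomial.coe_add, map_add, hP, hQ]
    | mul_X P j hP => rw [map_mul, map_mul, MvPolynomial.aeval_X, MvPolynomial.coe_mul, map_mul, hP, hx, MvPolynomial.coe_X]
  have htop0 : ∀ (v : Fin r → R), v ∈ maximalIdeal R ^ 0 • (⊤ : Submodule R (Fin r → R)) := fun v => by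
    rw [pow_zero, Ideal.one_eq_top, Submodule.top_smul]
    exact Submodule.mem_top
  have hS : ∀ g : S, ∀ a : A, π a = algebraMap S R g → gR a ∈ N := by
    intro g a ha
    have key : ∀ n : ℕ, (Submodule.Quotient.mk (gR a) : (Fin r → R) ⧸ N) ∈ maximalIdeal R ^ n • (⊤ : Submodule R ((Fin r → R) ⧸ N)) := by
      intro n
      obtain ⟨P, hP⟩ := exists_poly_sub_mem (n + 1) g
      have hmem : algebraMap S R (g - (P : S)) ∈ (maximalIdeal A ^ (n + 1)).map π := by
        have h1 : (maximalIdeal S).map (algebraMap S R) ≤ (maximalIdeal A).map π := by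
          rw [IsLocalRing.map_maximalIdeal_of_surjective π hπ, PSLoc.maximalIdeal_eq, Ideal.map_span,
            Ideal.span_le]
          rintro _ ⟨_, ⟨j, rfl⟩, rfl⟩
          exact hX j
        rw [Ideal.map_pow]
        refine Ideal.pow_right_mono h1 (n + 1) ?_
        rw [← Ideal.map_pow]
        exact Ideal.mem_map_of_mem _ hP
      obtain ⟨z, hz, hzg⟩ := (Ideal.mem_map_iff_of_surjective π hπ).mp hmem
      have hz' : gR z ∈ maximalIdeal R ^ n • (⊤ : Submodule R (Fin r → R)) := by
        rw [pow_succ] at hz
        refine Submodule.mul_induction_on hz (fun y hy w hw => ?_) fun y w hy hw => ?_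
        · rw [hgmul]
          refine Submodule.add_mem _ (Submodule.smul_mem_smul ?_ trivial) ?_
          · rw [← IsLocalRing.map_maximalIdeal_of_surjective π hπ, ← Ideal.map_pow]
            exact Ideal.mem_map_of_mem _ hy
          · have hy' : ∀ (m : ℕ) (y : A), y ∈ maximalIdeal A ^ m → gR y ∈ maximalIdeal R ^ (m - 1) • (⊤ : Submodule R (Fin r → R)) := by
              intro m
              induction m with
              | zero => intro y _; exact htop0 _
              | succ m ih =>
                intro y hy
                rw [pow_succ] at hy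
                refine Submodule.mul_induction_on hy (fun u hu v hv => ?_) fun u v hu hv => ?_
                · rw [hgmul]
                  have hπu : π u ∈ maximalIdeal R ^ m := by
                    rw [← IsLocalRing.map_maximalIdeal_of_surjective π hπ, ← Ideal.map_pow]
                    exact Ideal.mem_map_of_mem _ hu
                  have hπv : π v ∈ maximalIdeal R := by
                    rw [← IsLocalRing.map_maximalIdeal_of_surjective π hπ]
                    exact Ideal.mem_map_of_mem _ hv
                  refine Submodule.add_mem _ (Submodule.smul_mem_smul hπu trivial) ?_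
                  cases m with
                  | zero => exact htop0 _
                  | succ m =>
                    simp only [add_tsub_cancel_right] at ih ⊢
                    rw [pow_succ', Submodule.mul_smul]
                    exact Submodule.smul_mem_smul hπv (ih u hu)
                · show gD _ ∈ _
                  rw [map_add]
                  exact Submodule.add_mem _ hu hv
            cases n with
            | zero => exact htop0 _
            | succ n =>
              rw [pow_succ', Submodule.mul_smul]
              refine Submodule.smul_mem_smul ?_ (hy' (n + 1) y hy)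
              rw [← IsLocalRing.map_maximalIdeal_of_surjective π hπ]
              exact Ideal.mem_map_of_mem _ hw
        · show gD _ ∈ _
          rw [map_add]
          exact Submodule.add_mem _ hy hw
      have hb : gR (MvPolynomial.aeval x P + z) - gR a ∈ N := by
        have h : π a = π (MvPolynomial.aeval x P + z) := by
          rw [map_add, hcomm, hzg, ha, map_sub, add_sub_cancel]
        have := Submodule.mem_sup_left (T := Submodule.span R (Set.range fun j => gR (x j)))
          (Submodule.subset_span (R := R) (Set.mem_image_of_mem gR (Ideal.Quotient.eq.mp h.symm)))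
        rwa [show gR (MvPolynomial.aeval x P + z - a) = gR (MvPolynomial.aeval x P + z) - gR a from
          map_sub gD _ _] at this
      have h1 : (Submodule.Quotient.mk (gR a) : (Fin r → R) ⧸ N) = Submodule.Quotient.mk (gR z) := by
        rw [← (Submodule.Quotient.eq N).mpr hb]
        show Submodule.Quotient.mk (gD (_ + z)) = _
        rw [map_add, Submodule.Quotient.mk_add]
        change Submodule.Quotient.mk (gR _) + Submodule.Quotient.mk (gR z) = _
        rw [(Submodule.Quotient.mk_eq_zero N).mpr (hpoly P), zero_add]
      rw [h1]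
      have h2 := Submodule.mem_map_of_mem (f := N.mkQ) hz'
      rw [Submodule.map_smul'', Submodule.map_top, Submodule.range_mkQ] at h2
      exact h2
    have h0 : (Submodule.Quotient.mk (gR a) : (Fin r → R) ⧸ N) ∈
        (⨅ n : ℕ, maximalIdeal R ^ n • ⊤ : Submodule R ((Fin r → R) ⧸ N)) := Submodule.mem_iInf _ |>.mpr key
    rw [Ideal.iInf_pow_smul_eq_bot_of_isLocalRing _ (maximalIdeal.isMaximal R).ne_top, Submodule.mem_bot,
      Submodule.Quotient.mk_eq_zero] at h0
    exact h0
  -- pass to `L`
  let W' : Submodule L (Fin r → L) := W ⊔ Submodule.span L (Set.range fun j => grad L (x j))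
  have hgrad : ∀ a, gR a ∈ N → grad L a ∈ W' := by
    intro a ha
    have hgr : ∀ a, grad L a = fun i => algebraMap R L (gR a i) := fun a => funext fun i =>
      IsScalarTower.algebraMap_apply A R L _
    let ι : (Fin r → R) →ₗ[R] (Fin r → L) := LinearMap.compLeft (Algebra.linearMap R L) (Fin r)
    have h1 : N ≤ (W'.restrictScalars R).comap ι := by
      refine sup_le (Submodule.span_le.mpr ?_) (Submodule.span_le.mpr ?_)
      · rintro _ ⟨g, hg, rfl⟩
        refine Submodule.mem_sup_left (show ι (gR g) ∈ W from ?_)
        rw [show ι (gR g) = grad L g from (hgr g).symm]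
        exact hW g hg
      · rintro _ ⟨j, rfl⟩
        refine Submodule.mem_sup_right (show ι (gR (x j)) ∈ Submodule.span L (Set.range fun j => grad L (x j)) from ?_)
        rw [show ι (gR (x j)) = grad L (x j) from (hgr (x j)).symm]
        exact Submodule.subset_span ⟨j, rfl⟩
    rw [hgr]
    exact h1 ha
  letI : Module A ((Fin r → L) ⧸ W') := Module.compHom _ (algebraMap A L)
  letI : Module k ((Fin r → L) ⧸ W') := Module.compHom _ ((algebraMap A L).comp (algebraMap k A))
  let Δ : Derivation k A ((Fin r → L) ⧸ W') := Derivation.mk'
    { toFun := fun a => W'.mkQ (grad L a)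
      map_add' := fun a b => by rw [← map_add]; congr 1; ext i; simp [grad]
      map_smul' := fun c a => by
        show W'.mkQ (grad L (c • a)) = algebraMap A L (algebraMap k A c) • W'.mkQ (grad L a)
        rw [← map_smul, show grad L (c • a) = algebraMap A L (algebraMap k A c) • grad L a from
          funext fun i => by
            simp only [grad, Derivation.map_smul, Pi.smul_apply, smul_eq_mul]
            rw [Algebra.smul_def, map_mul]] }
    fun a b => by
      show W'.mkQ (grad L (a * b)) = algebraMap A L a • W'.mkQ (grad L b) + algebraMap A L b • W'.mkQ (grad L a)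
      rw [grad_mul, map_add, map_smul, map_smul]
  have hΔ : ∀ a, Δ a = 0 := by
    intro a
    have hint : IsIntegral L' (algebraMap R L (π a)) := Algebra.IsSeparable.isIntegral L' _
    set μ := minpoly L' (algebraMap R L (π a)) with hμ
    obtain ⟨b, hP⟩ := IsLocalization.integerNormalization_map_to_map (nonZeroDivisors S) μ
    set P := IsLocalization.integerNormalization (nonZeroDivisors S) μ
    obtain ⟨PA, hPA⟩ := Polynomial.map_surjective π hπ (P.map (algebraMap S R))
    have hco : ∀ n, Δ (PA.coeff n) = 0 := fun n => by
      show W'.mkQ _ = 0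
      rw [Submodule.mkQ_apply, Submodule.Quotient.mk_eq_zero]
      refine hgrad _ (hS (P.coeff n) _ ?_)
      rw [← Polynomial.coeff_map, hPA, Polynomial.coeff_map]
    have hmap : PA.map (algebraMap A L) = algebraMap S L b • μ.map (algebraMap L' L) := by
      rw [IsScalarTower.algebraMap_eq A R L, ← Polynomial.map_map]
      show Polynomial.map (algebraMap R L) (PA.map π) = _
      rw [hPA, Polynomial.map_map, ← IsScalarTower.algebraMap_eq, IsScalarTower.algebraMap_eq S L' L,
        ← Polynomial.map_map, hP, Algebra.smul_def (b : S) μ, Polynomial.map_mul, RingHom.comp_apply,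
        Polynomial.smul_eq_C_mul]
      congr 1
      rw [IsScalarTower.algebraMap_apply S L' (Polynomial L') (b : S), Polynomial.algebraMap_eq, Polynomial.map_C]
    have heval : ∀ Q : Polynomial A, algebraMap A L (Q.eval a) = (Q.map (algebraMap A L)).eval (algebraMap R L (π a)) := by
      intro Q
      rw [← Polynomial.eval₂_at_apply, Polynomial.eval_map, IsScalarTower.algebraMap_apply A R L a]
      rfl
    have h0 : algebraMap A L (PA.eval a) = 0 := by
      rw [heval, hmap, Polynomial.eval_smul, Polynomial.eval_map, ← Polynomial.aeval_def, minpoly.aeval, smul_zero]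
    have hmem : PA.eval a ∈ p := by
      rw [IsScalarTower.algebraMap_apply A R L, map_eq_zero_iff _ (IsFractionRing.injective R L)] at h0
      exact Ideal.Quotient.eq_zero_iff_mem.mp h0
    have h1 : Δ (PA.eval a) = 0 := by
      show W'.mkQ _ = 0
      rw [Submodule.mkQ_apply, Submodule.Quotient.mk_eq_zero]
      exact Submodule.mem_sup_left (hW _ hmem)
    rw [derivation_eval Δ PA hco] at h1
    change algebraMap A L ((Polynomial.derivative PA).eval a) • Δ a = 0 at h1
    refine (smul_eq_zero.mp h1).resolve_left ?_
    rw [heval, ← Polynomial.derivative_map, hmap, Polynomial.derivative_smul, Polynomial.eval_smul,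
      Polynomial.derivative_map, Polynomial.eval_map, ← Polynomial.aeval_def, smul_eq_mul]
    refine mul_ne_zero ?_ ((Algebra.IsSeparable.isSeparable L' _).aeval_derivative_ne_zero (minpoly.aeval _ _))
    rw [IsScalarTower.algebraMap_apply S R L, Ne, map_eq_zero_iff _ (IsFractionRing.injective R L),
      map_eq_zero_iff _ hinj]
    exact nonZeroDivisors.ne_zero b.2
  have htop : W' = ⊤ := by
    rw [eq_top_iff, ← (Pi.basisFun L (Fin r)).span_eq, Submodule.span_le]
    rintro _ ⟨i, rfl⟩
    rw [Pi.basisFun_apply, ← grad_X (k := k) L i, SetLike.mem_coe, ← Submodule.Quotient.mk_eq_zero]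
    exact hΔ _
  calc r = Module.finrank L W' := by rw [htop, finrank_top, Module.finrank_fin_fun]
    _ ≤ Module.finrank L W + Module.finrank L (Submodule.span L (Set.range fun j => grad L (x j))) := by
        have := Submodule.finrank_sup_add_finrank_inf_eq W (Submodule.span L (Set.range fun j => grad L (x j)))
        change Module.finrank L ↥(W ⊔ Submodule.span L (Set.range fun j => grad L (x j))) ≤ _
        omega
    _ ≤ _ := Nat.add_le_add_left ((finrank_range_le_card _).trans (Fintype.card_fin s).le) _

end Rank

end Groth.Agent.EGA41Lib.PSJacobian
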