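import Groth.Agent.EGA41Lib.PSJacobian
import Groth.Agent.EGA41Lib.Regular
import Groth.Agent.CAlg99.CotGen
import Groth.Agent.S2471
import Mathlib

/-! Nagata's Jacobian criterion for power series rings (EGA 0_IV 22.7.3). -/

universe u

open IsLocalRing

namespace Groth.Agent.EGA41Lib.NagataCrit

open PSJacobian

section Generic

variable {k : Type u} [Field k] {A : Type u} [CommRing A] [Algebra k A] {q p : Ideal A} [p.IsPrime]

omit [p.IsPrime] in
/-- Derivations extend to localisations. -/
theorem exists_extension_localization {B S K : Type u} [CommRing B] [CommRing S] [Algebra B S] (M : Submonoid B)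
    [IsLocalization M S] [CommRing K] [Algebra B K] [Algebra S K] [IsScalarTower B S K] (δ : Derivation ℤ B K) :
    ∃ E : Derivation ℤ S K, ∀ b, E (algebraMap B S b) = δ b := by
  haveI : Algebra.FormallyEtale B S := Algebra.FormallyEtale.of_isLocalization M
  let e := KaehlerDifferential.tensorKaehlerEquivOfFormallyEtale ℤ B S
  let Φ : TensorProduct B S (Ω[B⁄ℤ]) →ₗ[S] K := LinearMap.liftBaseChange S δ.liftKaehlerDifferential
  refine ⟨(Φ ∘ₗ e.symm.toLinearMap).compDer (KaehlerDifferential.D ℤ S), fun b => ?_⟩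
  show Φ (e.symm (KaehlerDifferential.D ℤ S (algebraMap B S b))) = _
  rw [show e.symm (KaehlerDifferential.D ℤ S (algebraMap B S b)) =
      TensorProduct.tmul B (1 : S) (KaehlerDifferential.D ℤ B b) from
    (LinearEquiv.symm_apply_eq e).mpr (by simp [e, KaehlerDifferential.tensorKaehlerEquivOfFormallyEtale_apply])]
  rw [LinearMap.liftBaseChange_tmul, one_smul, Derivation.liftKaehlerDifferential_comp_D]

open TensorProduct KaehlerDifferential in
omit [p.IsPrime] in
/-- Injectivity of the imperfection map from enough functionals. -/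
theorem injective_of_functionals {Bp : Type u} [CommRing Bp] [IsLocalRing Bp] [Algebra k Bp]
    (hext : ∀ ψ : Ω[k⁄ℤ] →ₗ[k] k, ∃ E : Derivation ℤ Bp (ResidueField Bp), ∀ c : k,
      E (algebraMap k Bp c) = algebraMap k (ResidueField Bp) (ψ (KaehlerDifferential.D ℤ k c))) :
    Function.Injective ((mapBaseChange ℤ k Bp).lTensor (ResidueField Bp)) := by
  classical
  let K := ResidueField Bp
  -- separation by the functionals
  rw [injective_iff_map_eq_zero]
  intro x hx
  let e := AlgebraTensorModule.cancelBaseChange k Bp Bp K Ω[k⁄ℤ]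
  let b := Module.Basis.ofVectorSpace k K
  let E := TensorProduct.equivFinsuppOfBasisLeft (N := Ω[k⁄ℤ]) b
  refine e.map_eq_zero_iff.mp (E.map_eq_zero_iff.mp (Finsupp.ext fun i => ?_))
  show E (e x) i = 0
  refine (Module.forall_dual_apply_eq_zero_iff k _).mp fun ψ => ?_
  obtain ⟨E₁, hE₁⟩ := hext ψ
  let Ψ : K ⊗[k] Ω[k⁄ℤ] →ₗ[k] K := TensorProduct.lift
    (LinearMap.mk₂ k (fun c ω => ψ ω • c) (fun c c' ω => smul_add _ _ _) (fun t c ω => smul_comm _ _ _)
      (fun c ω ω' => by rw [map_add, add_smul]) (fun t c ω => by rw [map_smul, smul_eq_mul, mul_smul]))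
  let G : K ⊗[Bp] Ω[Bp⁄ℤ] →ₗ[K] K := LinearMap.liftBaseChange K E₁.liftKaehlerDifferential
  have hEk : ∀ ω : Ω[k⁄ℤ], E₁.liftKaehlerDifferential (map ℤ ℤ k Bp ω) = algebraMap k K (ψ ω) := by
    intro ω
    have hω : ω ∈ Submodule.span k (Set.range (KaehlerDifferential.D ℤ k)) := by rw [span_range_derivation]; trivial
    induction hω using Submodule.span_induction with
    | mem y hy => obtain ⟨c, rfl⟩ := hy; rw [map_D, Derivation.liftKaehlerDifferential_comp_D, hE₁]
    | zero => simp
    | add y z _ _ hy hz => simp only [map_add, hy, hz]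
    | smul t y _ hy =>
      rw [map_smul, LinearMap.map_smul_of_tower, hy, map_smul, smul_eq_mul, map_mul, Algebra.smul_def]
  have key : ∀ z, G ((mapBaseChange ℤ k Bp).lTensor K z) = Ψ (e z) ∧ b.repr (Ψ (e z)) i = ψ (E (e z) i) := by
    intro z
    induction z using TensorProduct.induction_on with
    | zero => simp
    | add y z hy hz => simp only [map_add, Finsupp.add_apply, hy.1, hy.2, hz.1, hz.2, and_self]
    | tmul c t =>
      induction t using TensorProduct.induction_on with
      | zero => simp
      | add y z hy hz => simp only [TensorProduct.tmul_add, map_add, Finsupp.add_apply, hy.1, hy.2, hz.1, hz.2, and_self]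
      | tmul β ω =>
        refine ⟨?_, ?_⟩
        · simp only [e, G, Ψ, LinearMap.lTensor_tmul, mapBaseChange_tmul, LinearMap.liftBaseChange_tmul, map_smul,
            AlgebraTensorModule.cancelBaseChange_tmul, TensorProduct.lift.tmul, LinearMap.mk₂_apply, hEk]
          simp [Algebra.smul_def]
          ring
        · simp [e, Ψ, E, mul_comm]
  obtain ⟨h1, h2⟩ := key x
  rw [← h2, ← h1, hx, map_zero, map_zero, Finsupp.zero_apply]

lemma comap_map (hqp : q ≤ p) : (p.map (Ideal.Quotient.mk q)).comap (Ideal.Quotient.mk q) = p := by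
  rw [Ideal.comap_map_of_surjective _ Ideal.Quotient.mk_surjective, ← RingHom.ker_eq_comap_bot, Ideal.mk_ker,
    sup_eq_left.mpr hqp]

variable [(p.map (Ideal.Quotient.mk q)).IsPrime]

/-- `A_p/qA_p = (A/q)_p`. -/
theorem nonempty_quotientEquiv (hqp : q ≤ p) :
    Nonempty (Localization.AtPrime p ⧸ q.map (algebraMap (A) (Localization.AtPrime p)) ≃+*
      Localization.AtPrime (p.map (Ideal.Quotient.mk q))) := by
  let Bp := Localization.AtPrime (p.map (Ideal.Quotient.mk q))
  let Φ : Localization.AtPrime p →+* Bp :=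
    Localization.localRingHom p (p.map (Ideal.Quotient.mk q)) (Ideal.Quotient.mk q) (comap_map hqp).symm
  have hsurj : Function.Surjective Φ := fun z => by
    obtain ⟨c, t, rfl⟩ := IsLocalization.exists_mk'_eq (p.map (Ideal.Quotient.mk q)).primeCompl z
    obtain ⟨a, rfl⟩ := Ideal.Quotient.mk_surjective c
    obtain ⟨u, hu⟩ := Ideal.Quotient.mk_surjective (t : A ⧸ q)
    have hup : u ∈ p.primeCompl := fun h => t.2 (hu ▸ Ideal.mem_map_of_mem _ h)
    refine ⟨IsLocalization.mk' _ a ⟨u, hup⟩, ?_⟩
    rw [Localization.localRingHom_mk']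
    congr 1
    exact Subtype.ext hu
  have hker : RingHom.ker Φ = q.map (algebraMap A (Localization.AtPrime p)) := by
    refine le_antisymm (fun z hz => ?_) (Ideal.map_le_iff_le_comap.mpr fun a ha => ?_)
    · obtain ⟨a, u, rfl⟩ := IsLocalization.exists_mk'_eq p.primeCompl z
      rw [RingHom.mem_ker, Localization.localRingHom_mk', IsLocalization.mk'_eq_zero_iff] at hz
      obtain ⟨⟨v, hv⟩, hva⟩ := hz
      obtain ⟨v, rfl⟩ := Ideal.Quotient.mk_surjective v
      have hvp : v ∈ p.primeCompl := fun h => hv (Ideal.mem_map_of_mem _ h)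
      rw [IsLocalization.mk'_mem_map_algebraMap_iff p.primeCompl]
      exact ⟨v, hvp, Ideal.Quotient.eq_zero_iff_mem.mp (by simpa [map_mul] using hva)⟩
    · show Φ (algebraMap A _ a) = 0
      rw [Localization.localRingHom_to_map, Ideal.Quotient.eq_zero_iff_mem.mpr ha, map_zero]
  exact ⟨(Ideal.quotEquivOfEq hker.symm).trans (RingHom.quotientKerEquivOfSurjective hsurj)⟩

theorem isRegularLocalRing_quotient (hqp : q ≤ p)
    (h : IsRegularLocalRing (Localization.AtPrime (p.map (Ideal.Quotient.mk q)))) :
    IsRegularLocalRing (Localization.AtPrime p ⧸ q.map (algebraMap A (Localization.AtPrime p))) := by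
  obtain ⟨e⟩ := nonempty_quotientEquiv (q := q) hqp
  exact IsRegularLocalRing.of_ringEquiv e.symm

/-- The Jacobian condition. -/
def JC (k : Type u) [Field k] {A : Type u} [CommRing A] [Algebra k A] (q p : Ideal A) [p.IsPrime] : Prop :=
  ∃ (m : ℕ) (D : Fin m → Derivation k (A) (A))
    (f : Fin m → A), (∀ i, f i ∈ q) ∧
    q.map (algebraMap (A) (Localization.AtPrime p)) =
      Ideal.span (Set.range fun i => algebraMap (A) (Localization.AtPrime p) (f i)) ∧
    Matrix.det (Matrix.of fun i j => D i (f j)) ∉ p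

theorem isRegular_of_JC [IsRegularLocalRing (Localization.AtPrime p)] (hqp : q ≤ p) (h : JC k q p) :
    IsRegularLocalRing (Localization.AtPrime (p.map (Ideal.Quotient.mk q))) := by
  obtain ⟨m, D, f, hfq, hgen, hdet⟩ := h
  let Ap := Localization.AtPrime p
  haveI : IsRegularLocalRing Ap := ‹_›
  have hmax : maximalIdeal Ap = p.map (algebraMap A Ap) := Localization.AtPrime.map_eq_maximalIdeal.symm
  let F : Fin m → maximalIdeal Ap := fun i => ⟨algebraMap A Ap (f i), by
    rw [hmax]; exact Ideal.mem_map_of_mem _ (hqp (hfq i))⟩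
  have hli : LinearIndependent (ResidueField Ap) (fun i => (maximalIdeal Ap).toCotangent (F i)) := by
    rw [Fintype.linearIndependent_iff]
    intro g hg i
    choose c hc using fun j => residue_surjective (g j)
    obtain ⟨⟨u, hu⟩, hint⟩ := IsLocalization.exist_integer_multiples_of_finite p.primeCompl c
    choose a ha using hint
    have h0 : (maximalIdeal Ap).toCotangent (∑ j, c j • F j) = 0 := by
      rw [← hg, map_sum]
      refine Finset.sum_congr rfl fun j _ => ?_
      rw [map_smul, ← hc j]
      exact (algebraMap_smul (ResidueField Ap) (c j) _).symm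
    rw [Ideal.toCotangent_eq_zero] at h0
    have h1 : algebraMap A Ap (∑ j, a j * f j) ∈ (p ^ 2).map (algebraMap A Ap) := by
      rw [Ideal.map_pow, ← hmax]
      have : algebraMap A Ap (∑ j, a j * f j) = algebraMap A Ap u * ((∑ j, c j • F j : maximalIdeal Ap) : Ap) := by
        rw [map_sum, Submodule.coe_sum, Finset.mul_sum]
        refine Finset.sum_congr rfl fun j _ => ?_
        rw [map_mul, ha, Algebra.smul_def, Submodule.coe_smul, smul_eq_mul]
        simp only [F]
        ring
      rw [this]
      exact Ideal.mul_mem_left _ _ h0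
    obtain ⟨w, hw, hwp⟩ := (IsLocalization.algebraMap_mem_map_algebraMap_iff p.primeCompl Ap (p ^ 2) _).mp h1
    have hD : ∀ (E : Derivation k A A) (x : A), x ∈ p ^ 2 → E x ∈ p := by
      intro E x hx
      rw [pow_two] at hx
      refine Submodule.mul_induction_on hx (fun y hy z hz => ?_) fun y z hy hz => ?_
      · rw [E.leibniz]
        exact p.add_mem (p.mul_mem_right _ hy) (p.mul_mem_right _ hz)
      · rw [map_add]; exact p.add_mem hy hz
    have hfp : ∀ j, f j ∈ p := fun j => hqp (hfq j)
    let π := Ideal.Quotient.mk p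
    have hpi : ∀ j, Ideal.Quotient.mk p (f j) = 0 := fun j => Ideal.Quotient.eq_zero_iff_mem.mpr (hfp j)
    have hsys : ∀ i, ∑ j, π (a j) * π (D i (f j)) = 0 := by
      intro i
      have := Ideal.Quotient.eq_zero_iff_mem.mpr (hD (D i) _ hwp)
      rw [(D i).leibniz, map_add, smul_eq_mul, smul_eq_mul, map_mul, map_mul, map_sum (D i), map_sum, map_sum] at this
      simp only [Derivation.leibniz, map_add, smul_eq_mul, map_mul, hpi, zero_mul, add_zero, mul_zero,
        Finset.sum_const_zero] at this
      exact (mul_eq_zero.mp this).resolve_left fun h => hw (Ideal.Quotient.eq_zero_iff_mem.mp h)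
    have hdet' : ((Matrix.of fun i j => D i (f j)).map π).det ≠ 0 := by
      rw [← RingHom.mapMatrix_apply, ← RingHom.map_det]
      exact fun h => hdet (Ideal.Quotient.eq_zero_iff_mem.mp h)
    have hv := Matrix.eq_zero_of_mulVec_eq_zero hdet' (v := fun j => π (a j)) (funext fun i => by
      simpa [Matrix.mulVec, dotProduct, mul_comm] using hsys i)
    have hai : a i ∈ p := Ideal.Quotient.eq_zero_iff_mem.mp (congrFun hv i)
    rw [← hc i, residue_eq_zero_iff, hmax]
    have hu' : IsUnit (algebraMap A Ap u) := IsLocalization.map_units Ap (⟨u, hu⟩ : p.primeCompl)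
    refine (Ideal.unit_mul_mem_iff_mem _ hu').mp ?_
    rw [show algebraMap A Ap u * c i = algebraMap A Ap (a i) by rw [ha]; exact (Algebra.smul_def u (c i)).symm]
    exact Ideal.mem_map_of_mem _ hai
  haveI := CAlg99.CotGen.isRegularLocalRing_quotient_of_indep F hli
  obtain ⟨e⟩ := nonempty_quotientEquiv (q := q) hqp
  exact IsRegularLocalRing.of_ringEquiv ((Ideal.quotEquivOfEq hgen.symm).trans e)

open TensorProduct KaehlerDifferential in
set_option maxHeartbeats 800000 in
theorem injective_of_JC (hA : ∀ (d : k →+ k), (∀ a b, d (a * b) = a * d b + b * d a) →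
    ∃ δ : A →+ A, (∀ a b, δ (a * b) = a * δ b + b * δ a) ∧ ∀ c, δ (algebraMap k A c) = algebraMap k A (d c)) (hqp : q ≤ p) (h : JC k q p)
    (S : Type u) [CommRing S] [IsLocalRing S] [Algebra A S] [Algebra k S] [Algebra (A ⧸ q) S] [IsScalarTower k A S]
    [IsScalarTower A (A ⧸ q) S] [IsLocalization.AtPrime S (p.map (Ideal.Quotient.mk q))] :
    Function.Injective ((mapBaseChange ℤ k S).lTensor (ResidueField S)) := by
  classical
  obtain ⟨m, D, f, hfq, hgen, hdet⟩ := h
  let B := A ⧸ q
  let Bp := S
  let K := ResidueField Bp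
  haveI : IsScalarTower k B Bp := IsScalarTower.of_algebraMap_eq fun c => by
    rw [IsScalarTower.algebraMap_apply k A S, IsScalarTower.algebraMap_apply A B S, ← IsScalarTower.algebraMap_apply k A B]
  have hχ : ∀ x, algebraMap A K x = 0 ↔ x ∈ p := by
    intro x
    rw [IsScalarTower.algebraMap_apply A Bp K, show algebraMap Bp K = residue Bp from rfl, residue_eq_zero_iff,
      IsScalarTower.algebraMap_apply A B Bp, IsLocalization.AtPrime.to_map_mem_maximal_iff Bp (p.map (Ideal.Quotient.mk q)),
      show algebraMap A B x = Ideal.Quotient.mk q x from rfl, ← Ideal.mem_comap, comap_map hqp]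
  have ext : ∀ ψ : Ω[k⁄ℤ] →ₗ[k] k, ∃ E : Derivation ℤ Bp K, ∀ c : k,
      E (algebraMap k Bp c) = algebraMap k K (ψ (KaehlerDifferential.D ℤ k c)) := by
    intro ψ
    let d : k →+ k := ψ.toAddMonoidHom.comp (KaehlerDifferential.D ℤ k).toLinearMap.toAddMonoidHom
    have hd : ∀ a b, d (a * b) = a * d b + b * d a := fun a b => by
      show ψ (KaehlerDifferential.D ℤ k (a * b)) = _
      rw [Derivation.leibniz, map_add, map_smul, map_smul]
      rfl
    obtain ⟨δA₀, hleib, hδA⟩ := hA d hd
    let δA : Derivation ℤ A A := Derivation.mk' δA₀.toIntLinearMap hleib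
    let δ₀ : Derivation ℤ A K := (Algebra.linearMap A K).compDer δA
    let M : Matrix (Fin m) (Fin m) K := (Matrix.of fun i j => D i (f j)).map (algebraMap A K)
    have hM : IsUnit M.det := by
      show IsUnit ((Matrix.of fun i j => D i (f j)).map (algebraMap A K)).det
      rw [← RingHom.mapMatrix_apply, ← RingHom.map_det, isUnit_iff_ne_zero]
      exact fun h => hdet ((hχ _).mp h)
    let a : Fin m → K := Matrix.vecMul (fun j => δ₀ (f j)) M⁻¹
    have ha : Matrix.vecMul a M = fun j => δ₀ (f j) := by
      rw [Matrix.vecMul_vecMul, Matrix.nonsing_inv_mul M hM, Matrix.vecMul_one]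
    let δ : Derivation ℤ A K := Derivation.mk'
      (δ₀.toLinearMap - ∑ i, (AddMonoidHom.toIntLinearMap
        ((AddMonoidHom.mulLeft (a i)).comp ((algebraMap A K).toAddMonoidHom.comp (D i).toLinearMap.toAddMonoidHom))))
      fun x y => by
        simp only [LinearMap.sub_apply, LinearMap.coe_sum, Finset.sum_apply, AddMonoidHom.coe_toIntLinearMap,
          AddMonoidHom.coe_comp, Function.comp_apply, AddMonoidHom.coe_mulLeft, LinearMap.toAddMonoidHom_coe,
          Derivation.coeFn_coe, Derivation.leibniz, smul_sub, Finset.smul_sum]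
        rw [show (∑ i, a i * (algebraMap A K).toAddMonoidHom (x • D i y + y • D i x)) =
            (∑ i, x • (a i * (algebraMap A K).toAddMonoidHom (D i y))) + ∑ i, y • (a i * (algebraMap A K).toAddMonoidHom (D i x)) by
          rw [← Finset.sum_add_distrib]
          refine Finset.sum_congr rfl fun i _ => ?_
          simp [Algebra.smul_def]
          ring]
        abel
    have hδ : ∀ x, δ x = δ₀ x - ∑ i, a i * algebraMap A K (D i x) := fun x => by
      simp [δ]
    have hδf : ∀ j, δ (f j) = 0 := fun j => by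
      rw [hδ, ← congrFun ha j, sub_eq_zero]
      rfl
    have hδC : ∀ c : k, δ (algebraMap k A c) = algebraMap k K (ψ (KaehlerDifferential.D ℤ k c)) := fun c => by
      rw [hδ, Finset.sum_eq_zero fun i _ => by rw [Derivation.map_algebraMap, map_zero, mul_zero], sub_zero]
      show algebraMap A K (δA (algebraMap k A c)) = _
      rw [show δA (algebraMap k A c) = algebraMap k A (d c) from hδA c, ← IsScalarTower.algebraMap_apply k A K]
      rfl
    have hδq : ∀ x ∈ q, δ x = 0 := by
      intro x hx
      have hx' : algebraMap A (Localization.AtPrime p) x ∈ (Ideal.span (Set.range f)).map (algebraMap A (Localization.AtPrime p)) := by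
        rw [Ideal.map_span, ← Set.range_comp]
        exact hgen ▸ Ideal.mem_map_of_mem _ hx
      obtain ⟨u, hu, hux⟩ := (IsLocalization.algebraMap_mem_map_algebraMap_iff p.primeCompl _ _ _).mp hx'
      have hy : ∀ y ∈ Ideal.span (Set.range f), δ y = 0 ∧ y ∈ p := by
        intro y hy
        induction hy using Submodule.span_induction with
        | mem y hy => obtain ⟨i, rfl⟩ := hy; exact ⟨hδf i, hqp (hfq i)⟩
        | zero => exact ⟨δ.map_zero, p.zero_mem⟩
        | add y z _ _ hy hz => exact ⟨by rw [map_add, hy.1, hz.1, add_zero], p.add_mem hy.2 hz.2⟩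
        | smul t y _ hy =>
          exact ⟨by rw [smul_eq_mul, δ.leibniz, hy.1, smul_zero, zero_add, Algebra.smul_def, (hχ y).mpr hy.2, zero_mul],
            p.mul_mem_left t hy.2⟩
      have h1 := (hy _ hux).1
      rw [δ.leibniz, Algebra.smul_def x, (hχ x).mpr (hqp hx), zero_mul, add_zero, Algebra.smul_def] at h1
      exact (mul_eq_zero.mp h1).resolve_left fun h => hu ((hχ u).mp h)
    let l : B →ₗ[ℤ] K :=
      (QuotientAddGroup.lift q.toAddSubgroup δ.toLinearMap.toAddMonoidHom (fun x hx => hδq x hx) : B →+ K).toIntLinearMap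
    let δ' : Derivation ℤ B K := Derivation.mk' l fun x y => by
      obtain ⟨x, rfl⟩ := Ideal.Quotient.mk_surjective x
      obtain ⟨y, rfl⟩ := Ideal.Quotient.mk_surjective y
      have hs : ∀ (x : A) (z : K), (Ideal.Quotient.mk q x : B) • z = x • z := fun x z =>
        algebraMap_smul B x z
      rw [hs, hs, ← map_mul]
      exact δ.leibniz x y
    obtain ⟨E, hE⟩ := exists_extension_localization (p.map (Ideal.Quotient.mk q)).primeCompl (S := Bp) δ'
    refine ⟨E, fun c => ?_⟩
    rw [IsScalarTower.algebraMap_apply k B Bp, hE, ← hδC c]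
    rfl
  exact injective_of_functionals ext

open IsLocalRing in
theorem isAdicFormallySmooth_of_JC_aux (hA : ∀ (d : k →+ k), (∀ a b, d (a * b) = a * d b + b * d a) →
    ∃ δ : A →+ A, (∀ a b, δ (a * b) = a * δ b + b * δ a) ∧ ∀ c, δ (algebraMap k A c) = algebraMap k A (d c)) (hqp : q ≤ p) (h : JC k q p)
    (S : Type u) [CommRing S] [IsRegularLocalRing S] [Algebra A S] [Algebra k S] [Algebra (A ⧸ q) S] [IsScalarTower k A S]
    [IsScalarTower A (A ⧸ q) S] [IsLocalization.AtPrime S (p.map (Ideal.Quotient.mk q))] :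
    CAlgX.IsAdicFormallySmooth k S (maximalIdeal S) :=
  Groth.Agent.S2471.result.mpr ⟨inferInstance, injective_of_JC hA hqp h S⟩

theorem isAdicFormallySmooth_of_JC [IsRegularLocalRing (Localization.AtPrime p)]
    (hA : ∀ (d : k →+ k), (∀ a b, d (a * b) = a * d b + b * d a) →
    ∃ δ : A →+ A, (∀ a b, δ (a * b) = a * δ b + b * δ a) ∧ ∀ c, δ (algebraMap k A c) = algebraMap k A (d c)) (hqp : q ≤ p) (h : JC k q p) :
    CAlgX.IsAdicFormallySmooth k (Localization.AtPrime (p.map (Ideal.Quotient.mk q)))
      (IsLocalRing.maximalIdeal (Localization.AtPrime (p.map (Ideal.Quotient.mk q)))) :=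
  haveI := isRegular_of_JC hqp h
  isAdicFormallySmooth_of_JC_aux hA hqp h _

theorem isRegular_of_isAdicFormallySmooth [IsNoetherianRing A]
    (h : CAlgX.IsAdicFormallySmooth k (Localization.AtPrime (p.map (Ideal.Quotient.mk q)))
      (IsLocalRing.maximalIdeal (Localization.AtPrime (p.map (Ideal.Quotient.mk q))))) :
    IsRegularLocalRing (Localization.AtPrime (p.map (Ideal.Quotient.mk q))) :=
  (Groth.Agent.S2471.result.mp h).1

end Generic

section PowerSeries

variable {k : Type u} [Field k]

theorem isRegularLocalRing_atPrime {r : ℕ} (p : Ideal (MvPowerSeries (Fin r) k)) [p.IsPrime] :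
    IsRegularLocalRing (Localization.AtPrime p) :=
  haveI := Groth.Agent.EGA41Lib.isRegularRing_mvPowerSeries k r
  IsRegularRing.isRegularLocalRing_localization p

set_option maxHeartbeats 800000 in
theorem JC_of_isRegular {r : ℕ} {q p : Ideal (MvPowerSeries (Fin r) k)} [p.IsPrime] [(p.map (Ideal.Quotient.mk q)).IsPrime] (hqp : q ≤ p) (s : ℕ)
    [Algebra (MvPowerSeries (Fin s) k) (MvPowerSeries (Fin r) k ⧸ p)]
    [IsScalarTower k (MvPowerSeries (Fin s) k) (MvPowerSeries (Fin r) k ⧸ p)]
    [Module.Finite (MvPowerSeries (Fin s) k) (MvPowerSeries (Fin r) k ⧸ p)]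
    (hinj : Function.Injective (algebraMap (MvPowerSeries (Fin s) k) (MvPowerSeries (Fin r) k ⧸ p)))
    {L' L : Type u} [Field L'] [Field L]
    [Algebra (MvPowerSeries (Fin s) k) L'] [IsFractionRing (MvPowerSeries (Fin s) k) L']
    [Algebra (MvPowerSeries (Fin r) k ⧸ p) L] [IsFractionRing (MvPowerSeries (Fin r) k ⧸ p) L]
    [Algebra L' L] [Algebra (MvPowerSeries (Fin s) k) L]
    [IsScalarTower (MvPowerSeries (Fin s) k) (MvPowerSeries (Fin r) k ⧸ p) L]
    [IsScalarTower (MvPowerSeries (Fin s) k) L' L] [Algebra.IsSeparable L' L]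
    (h : IsRegularLocalRing (Localization.AtPrime (p.map (Ideal.Quotient.mk q)))) : JC k q p := by
  classical
  set A := MvPowerSeries (Fin r) k
  let R := A ⧸ p
  let Ap := Localization.AtPrime p
  haveI : IsRegularLocalRing Ap := isRegularLocalRing_atPrime p
  letI : Algebra A L := ((algebraMap R L).comp (Ideal.Quotient.mk p)).toAlgebra
  haveI : IsScalarTower A R L := ⟨fun a b c => by
    obtain ⟨b, rfl⟩ := Ideal.Quotient.mk_surjective b
    simp only [Algebra.smul_def, ← mul_assoc]
    congr 1
    show algebraMap R L (Ideal.Quotient.mk p a * Ideal.Quotient.mk p b) = _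
    rw [map_mul]
    rfl⟩
  haveI : IsRegularLocalRing (Ap ⧸ q.map (algebraMap A Ap)) := isRegularLocalRing_quotient hqp h
  obtain ⟨n, hn, -⟩ := RegLoc.exists_natCast_eq_ringKrullDim Ap
  obtain ⟨S, T, hS, hST, hcard⟩ := RegLoc.exists_finset_span_eq_of_quotient hn (q.map (algebraMap A Ap))
  have hns : n + s ≤ r := by
    have h1 := height_add_dim_le p
    haveI : FaithfulSMul (MvPowerSeries (Fin s) k) R := (faithfulSMul_iff_algebraMap_injective _ _).mpr hinj
    rw [hn, VarDim.ringKrullDim_eq_of_isIntegral (R := MvPowerSeries (Fin s) k) (S := R), PSLoc.ringKrullDim_eq,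
      PSLoc.ringKrullDim_eq] at h1
    exact_mod_cast h1
  -- numerators
  have hSq : ∀ z : S, ∃ (a : A) (u : p.primeCompl), a ∈ q ∧ (z : Ap) * algebraMap A Ap u = algebraMap A Ap a := by
    intro z
    obtain ⟨⟨a, u⟩, hau⟩ := (IsLocalization.mem_map_algebraMap_iff p.primeCompl Ap).mp
      (show (z : Ap) ∈ q.map (algebraMap A Ap) by rw [← hS]; exact Ideal.subset_span z.2)
    exact ⟨a, u, a.2, hau⟩
  have hTp : ∀ z : T, ∃ (a : A) (u : p.primeCompl), a ∈ p ∧ (z : Ap) * algebraMap A Ap u = algebraMap A Ap a := by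
    intro z
    obtain ⟨⟨a, u⟩, hau⟩ := (IsLocalization.mem_map_algebraMap_iff p.primeCompl Ap).mp
      (show (z : Ap) ∈ p.map (algebraMap A Ap) by
        rw [Localization.AtPrime.map_eq_maximalIdeal, ← hST]
        exact Ideal.mem_sup_right (Ideal.subset_span z.2))
    exact ⟨a, u, a.2, hau⟩
  choose a us haq hau using hSq
  choose b ut hbp hbu using hTp
  let c : S ⊕ T → A := Sum.elim a b
  have hcp : ∀ i, c i ∈ p := fun i => by
    rcases i with i | i
    · exact hqp (haq i)
    · exact hbp i
  have hgenS : Ideal.span (Set.range fun z : S => algebraMap A Ap (a z)) = q.map (algebraMap A Ap) := by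
    rw [← hS]
    refine le_antisymm (Ideal.span_le.mpr ?_) (Ideal.span_le.mpr ?_)
    · rintro _ ⟨z, rfl⟩
      show algebraMap A Ap (a z) ∈ _
      rw [← hau z]
      exact Ideal.mul_mem_right _ _ (Ideal.subset_span z.2)
    · intro z hz
      refine (Ideal.mul_unit_mem_iff_mem _ (IsLocalization.map_units Ap (us ⟨z, hz⟩))).mp ?_
      rw [hau ⟨z, hz⟩]
      exact Ideal.subset_span ⟨⟨z, hz⟩, rfl⟩
  have hgen : p.map (algebraMap A Ap) ≤ (Ideal.span (Set.range c)).map (algebraMap A Ap) := by
    rw [Localization.AtPrime.map_eq_maximalIdeal, ← hST, hS, ← hgenS, sup_le_iff, Ideal.span_le, Ideal.span_le]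
    refine ⟨?_, fun z hz => ?_⟩
    · rintro _ ⟨z, rfl⟩
      exact Ideal.mem_map_of_mem _ (Ideal.subset_span ⟨Sum.inl z, rfl⟩)
    · refine (Ideal.mul_unit_mem_iff_mem _ (IsLocalization.map_units Ap (ut ⟨z, hz⟩))).mp ?_
      rw [hbu ⟨z, hz⟩]
      exact Ideal.mem_map_of_mem _ (Ideal.subset_span ⟨Sum.inr ⟨z, hz⟩, rfl⟩)
  have hχ : ∀ x ∈ p, algebraMap A L x = 0 := fun x hx => by
    show algebraMap R L (Ideal.Quotient.mk p x) = 0
    rw [Ideal.Quotient.eq_zero_iff_mem.mpr hx, map_zero]
  have hχ' : ∀ x, algebraMap A L x = 0 → x ∈ p := fun x hx =>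
    Ideal.Quotient.eq_zero_iff_mem.mp ((map_eq_zero_iff _ (IsFractionRing.injective R L)).mp hx)
  let W := Submodule.span L (Set.range fun i => grad L (c i))
  have hW : ∀ x ∈ p, grad L x ∈ W := by
    intro x hx
    obtain ⟨u, hu, hux⟩ := (IsLocalization.algebraMap_mem_map_algebraMap_iff p.primeCompl Ap _ _).mp
      (hgen (Ideal.mem_map_of_mem _ hx))
    have hy : ∀ y ∈ Ideal.span (Set.range c), grad L y ∈ W ∧ y ∈ p := by
      intro y hy
      induction hy using Submodule.span_induction with
      | mem y hy => obtain ⟨i, rfl⟩ := hy; exact ⟨Submodule.subset_span ⟨i, rfl⟩, hcp i⟩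
      | zero =>
        refine ⟨?_, p.zero_mem⟩
        have : grad L (0 : A) = 0 := by ext; simp [grad]
        rw [this]; exact W.zero_mem
      | add y z _ _ hy hz =>
        refine ⟨?_, p.add_mem hy.2 hz.2⟩
        have : grad L (y + z) = grad L y + grad L z := by ext; simp [grad]
        rw [this]; exact W.add_mem hy.1 hz.1
      | smul t y _ hy =>
        refine ⟨?_, p.mul_mem_left t hy.2⟩
        rw [smul_eq_mul, grad_mul, hχ y hy.2, zero_smul, add_zero]
        exact W.smul_mem _ hy.1
    have h1 := (hy _ hux).1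
    rw [grad_mul, hχ x hx, zero_smul, add_zero] at h1
    exact (Submodule.smul_mem_iff _ fun h => hu (hχ' u h)).mp h1
  have hrank := le_finrank_add (L' := L') p L hinj W hW
  have hli : LinearIndependent L (fun i => grad L (c i)) := by
    rw [linearIndependent_iff_card_le_finrank_span, Fintype.card_sum, Fintype.card_coe, Fintype.card_coe]
    change _ ≤ Module.finrank L W
    omega
  let eS := S.equivFin.symm
  let f : Fin S.card → A := fun i => a (eS i)
  have hlif : LinearIndependent L (fun i => grad L (f i)) :=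
    hli.comp (fun i => Sum.inl (eS i)) (Sum.inl_injective.comp eS.injective)
  obtain ⟨g, hg⟩ := LinearMap.exists_leftInverse_of_injective (Fintype.linearCombination L fun i => grad L (f i))
    (LinearMap.ker_eq_bot.mpr hlif.fintypeLinearCombination_injective)
  have hgv : ∀ j, g (grad L (f j)) = Pi.single j 1 := fun j => by
    have := DFunLike.congr_fun hg (Pi.single j 1)
    simpa [Fintype.linearCombination_apply, Pi.single_apply] using this
  let N : Fin S.card × Fin r → L := fun x => g (Pi.single x.2 1) x.1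
  obtain ⟨⟨β, hβ⟩, hint⟩ := IsLocalization.exist_integer_multiples_of_finite (nonZeroDivisors R) N
  choose ρ hρ using hint
  choose σ hσ using fun x => Ideal.Quotient.mk_surjective (ρ x)
  let D : Fin S.card → Derivation k A A := fun i => ∑ l, σ (i, l) • MvPowerSeries.pderiv k l
  have hDf : (Matrix.of fun i j => D i (f j)).map (algebraMap A L) = Matrix.diagonal fun _ => algebraMap R L β := by
    ext i j
    have hsum : grad L (f j) = ∑ l, grad L (f j) l • Pi.single l (1 : L) := by
      simpa using (Finset.univ_sum_single (grad L (f j))).symm.trans (Finset.sum_congr rfl fun l _ => by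
        rw [← Pi.single_smul', smul_eq_mul, mul_one])
    have h1 := congrFun (hgv j) i
    rw [hsum, map_sum, Finset.sum_apply] at h1
    have hA : algebraMap A L (D i (f j)) = algebraMap R L β * ∑ l, grad L (f j) l * N (i, l) := by
      rw [show D i (f j) = ∑ l, σ (i, l) * MvPowerSeries.pderiv k l (f j) by
        show (Derivation.coeFnAddMonoidHom (∑ l, σ (i, l) • MvPowerSeries.pderiv k l)) (f j) = _
        simp [map_sum, Finset.sum_apply, Derivation.coeFnAddMonoidHom_apply], map_sum, Finset.mul_sum]
      refine Finset.sum_congr rfl fun l _ => ?_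
      rw [map_mul, show algebraMap A L (σ (i, l)) = algebraMap R L (ρ (i, l)) by rw [← hσ]; rfl, hρ,
        Algebra.smul_def]
      show _ * _ * grad L (f j) l = _
      ring
    rw [Matrix.map_apply, Matrix.of_apply, hA, show (∑ l, grad L (f j) l * N (i, l)) = (Pi.single j 1 : Fin S.card → L) i from
      (Finset.sum_congr rfl fun l _ => by simp [N]).trans h1, Matrix.diagonal_apply, Pi.single_apply]
    split_ifs <;> simp
  refine ⟨S.card, D, f, fun i => haq _, ?_, fun hdet => ?_⟩
  · rw [← hgenS]
    congr 1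
    exact (eS.surjective.range_comp fun z : S => algebraMap A Ap (a z)).symm
  · have h1 := hχ _ hdet
    rw [RingHom.map_det, RingHom.mapMatrix_apply, hDf, Matrix.det_diagonal, Finset.prod_const] at h1
    exact pow_ne_zero _ (fun h => nonZeroDivisors.ne_zero hβ ((map_eq_zero_iff _ (IsFractionRing.injective R L)).mp h)) h1

theorem exists_coeffDer {r : ℕ} (d : k →+ k) (hd : ∀ a b, d (a * b) = a * d b + b * d a) :
    ∃ δ : MvPowerSeries (Fin r) k →+ MvPowerSeries (Fin r) k, (∀ a b, δ (a * b) = a * δ b + b * δ a) ∧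
      ∀ c, δ (algebraMap k (MvPowerSeries (Fin r) k) c) = algebraMap k (MvPowerSeries (Fin r) k) (d c) :=
  ⟨(coeffDer d hd).toLinearMap.toAddMonoidHom, (coeffDer d hd).leibniz, fun c => coeffDer_C d hd c⟩

end PowerSeries

end Groth.Agent.EGA41Lib.NagataCrit
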