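import Groth.Agent.PBasis.Field
import Groth.Agent.FieldSep.Cartier
import Groth.Agent.FieldSep.Imperfection
import Mathlib

/-! Differentials relative to a directed family of subfields (EGA 0_IV 21.8). -/

universe u

namespace Groth.Agent.EGA41Lib.SubfieldKaehler

open EGA41 TensorProduct KaehlerDifferential

variable {k : Type u} [Field k] {ι : Type u} [Preorder ι] [IsDirected ι (· ≤ ·)] [Nonempty ι]

/-- Relations with coefficients in a set vanish. -/
def Indep {σ : Type u} (F : Set k) (v : σ → k) (s : Finset σ) : Prop :=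
  ∀ c : σ → k, (∀ i ∈ s, c i ∈ F) → (∑ i ∈ s, c i * v i) = 0 → ∀ i ∈ s, c i = 0

/-- Independence over the intersection of a directed family is independence over a member. -/
theorem exists_indep {σ : Type u} (F : ι → Subfield k) (hF : Antitone F) (v : σ → k) (s : Finset σ)
    (h : Indep (↑(⨅ α, F α) : Set k) v s) : ∃ α, Indep (F α : Set k) v s := by
  classical
  induction s using Finset.induction with
  | empty => exact ⟨Classical.arbitrary ι, fun c _ _ i hi => absurd hi (Finset.notMem_empty i)⟩
  | @insert a s has ih =>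
    obtain ⟨α₁, h₁⟩ := ih (fun c hc hsum i hi => by
      let c' : σ → k := fun j => if j = a then 0 else c j
      have hc' : ∀ j ∈ s, c' j = c j := fun j hj => if_neg (fun e => has (by rw [← e]; exact hj))
      have := h c' (fun j hj => by
          rcases Finset.mem_insert.mp hj with rfl | hj
          · simp [c']
          · rw [hc' j hj]; exact hc j hj)
        (by
          rw [Finset.sum_insert has, show c' a = 0 from if_pos rfl, zero_mul, zero_add, ← hsum]
          exact Finset.sum_congr rfl fun j hj => by rw [hc' j hj])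
        i (Finset.mem_insert_of_mem hi)
      rwa [hc' i hi] at this)
    by_contra hcon
    push Not at hcon
    have key : ∀ β, α₁ ≤ β → ∃ d : σ → k, (∀ i ∈ s, d i ∈ F β) ∧ (∑ i ∈ s, d i * v i) = v a := by
      intro β hβ
      have hb : ¬ Indep (F β : Set k) v (insert a s) := hcon β
      simp only [Indep, not_forall] at hb
      obtain ⟨c, hc, hsum, i, hi, hne⟩ := hb
      have hca : c a ≠ 0 := by
        intro hca
        rw [Finset.sum_insert has, hca, zero_mul, zero_add] at hsum
        rcases Finset.mem_insert.mp hi with rfl | hi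
        · exact hne hca
        · exact hne (h₁ c (fun j hj => hF hβ (hc j (Finset.mem_insert_of_mem hj))) hsum i hi)
      refine ⟨fun j => -(c j) / c a, fun j hj => div_mem (neg_mem (hc j (Finset.mem_insert_of_mem hj)))
        (hc a (Finset.mem_insert_self _ _)), ?_⟩
      rw [Finset.sum_insert has] at hsum
      simp only [div_mul_eq_mul_div, ← Finset.sum_div, neg_mul, Finset.sum_neg_distrib]
      rw [div_eq_iff hca]
      linear_combination -hsum
    choose d hd hdsum using key
    have hconst : ∀ β (hβ : α₁ ≤ β), ∀ i ∈ s, d β hβ i = d α₁ le_rfl i := fun β hβ i hi => by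
      have := h₁ (fun j => d β hβ j - d α₁ le_rfl j) (fun j hj => sub_mem (hF hβ (hd β hβ j hj)) (hd α₁ le_rfl j hj))
        (by simp only [sub_mul, Finset.sum_sub_distrib, hdsum, sub_self]) i hi
      exact sub_eq_zero.mp this
    have hmem : ∀ i ∈ s, d α₁ le_rfl i ∈ (↑(⨅ α, F α) : Set k) := fun i hi => by
      refine SetLike.mem_coe.mpr (Subfield.mem_iInf.mpr fun β => ?_)
      obtain ⟨γ, hγ₁, hγβ⟩ := exists_ge_ge α₁ β
      exact hF hγβ (hconst γ hγ₁ i hi ▸ hd γ hγ₁ i hi)
    let c : σ → k := fun j => if j = a then -1 else d α₁ le_rfl j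
    have hc : ∀ j ∈ s, c j = d α₁ le_rfl j := fun j hj => if_neg (fun e => has (by rw [← e]; exact hj))
    have := h c (fun j hj => by
        rcases Finset.mem_insert.mp hj with rfl | hj
        · simp only [c, if_pos]; exact neg_mem (one_mem _)
        · rw [hc j hj]; exact hmem j hj)
      (by
        rw [Finset.sum_insert has, show c a = -1 from if_pos rfl, neg_one_mul,
          Finset.sum_congr rfl (fun j hj => by rw [hc j hj] : ∀ j ∈ s, c j * v j = d α₁ le_rfl j * v j),
          hdsum, neg_add_cancel])
      a (Finset.mem_insert_self _ _)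
    simp [c] at this

variable (p : ℕ) [Fact p.Prime]

lemma pPower_le [CharP k p] (L : Subfield k) {y : k} (hy : y ∈ pPowerSubalgebra p L k) :
    y ∈ L ⊔ (frobenius k p).fieldRange := by
  induction hy using Algebra.adjoin_induction with
  | mem y hy =>
    obtain ⟨z, rfl⟩ := hy
    exact (le_sup_right : (frobenius k p).fieldRange ≤ _) ⟨z, rfl⟩
  | algebraMap r => exact (le_sup_left : L ≤ _) r.2
  | add a b _ _ ha hb => exact add_mem ha hb
  | mul a b _ _ ha hb => exact mul_mem ha hb

/-- A differential vanishing over all members of the family vanishes. -/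
theorem eq_zero_of_forall [CharP k p] (kα : ι → Subfield k) (hanti : Antitone kα)
    (hint : ⨅ α, (kα α ⊔ (frobenius k p).fieldRange) = (frobenius k p).fieldRange)
    (ω : Ω[k⁄ℤ]) (hω : ∀ α, map ℤ (kα α) k k ω = 0) : ω = 0 := by
  classical
  let k₀ : Subfield k := ⊥
  haveI : Subsingleton Ω[k₀⁄ℤ] := FieldSep.Cartier.subsingleton_kaehler_bot k
  have hinj : Function.Injective (map ℤ k₀ k k) := (injective_iff_map_eq_zero _).mpr fun t ht => by
    obtain ⟨s, rfl⟩ := (exact_mapBaseChange_map ℤ k₀ k t).mp ht
    rw [Subsingleton.elim s 0, map_zero]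
  obtain ⟨B, hB⟩ := PBasis.Field.exists_isPBasis p k₀ k
  obtain ⟨b, hb⟩ := PBasis.Basic.exists_kaehler_basis p _ hB
  set c := b.repr (map ℤ k₀ k k ω) with hc
  let s := c.support
  let x : s → k := fun i => ((i : B) : k)
  have hωsum : ω = ∑ i : s, c i • D ℤ k (x i) := by
    apply hinj
    rw [map_sum]
    calc map ℤ k₀ k k ω = (b.repr (map ℤ k₀ k k ω)).sum fun i a => a • b i :=
          (b.linearCombination_repr _).symm.trans (Finsupp.linearCombination_apply _ _)
      _ = ∑ i : s, c i • b i := by rw [Finsupp.sum, ← hc, Finset.sum_coe_sort s fun i => c i • b i]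
      _ = _ := Finset.sum_congr rfl fun i _ => by rw [map_smul, map_D, hb]; rfl
  have hx₀ : IsPIndependent p k₀ x := by
    rw [PBasis.Field.isPIndependent_iff_kaehler]
    have := b.linearIndependent.comp (fun i : s => (i : B)) Subtype.val_injective
    simpa [Function.comp_def, hb, x] using this
  haveI : Finite (PBasis.Basic.Exp p (s : Type u)) :=
    Finite.of_injective (fun e => fun i => (⟨e.1 i, e.2 i⟩ : Fin p)) fun e f h =>
      Subtype.ext (Finsupp.ext fun i => congrArg Fin.val (congrFun h i))
  haveI := Fintype.ofFinite (PBasis.Basic.Exp p (s : Type u))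
  let v : PBasis.Basic.Exp p (s : Type u) → k := fun e => pMonomial x e.1
  have h0 : Indep (↑(⨅ α, (kα α ⊔ (frobenius k p).fieldRange)) : Set k) v Finset.univ := by
    intro a ha hsum i hi
    rw [hint] at ha
    have hmem : ∀ j, a j ∈ pPowerSubalgebra p k₀ k := fun j => by
      obtain ⟨z, hz⟩ := ha j (Finset.mem_univ j)
      exact hz ▸ Algebra.subset_adjoin ⟨z, rfl⟩
    exact congrArg Subtype.val
      (Fintype.linearIndependent_iff.mp hx₀ (fun j => ⟨a j, hmem j⟩) hsum i)
  obtain ⟨α, hα⟩ := exists_indep (fun α => kα α ⊔ (frobenius k p).fieldRange)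
    (fun a b h => sup_le_sup_right (hanti h) _) v Finset.univ h0
  have hxα : IsPIndependent p (kα α) x := by
    refine Fintype.linearIndependent_iff.mpr fun g hg i => Subtype.ext ?_
    exact hα (fun j => (g j : k)) (fun j _ => pPower_le p (kα α) (g j).2) hg i (Finset.mem_univ i)
  rw [PBasis.Field.isPIndependent_iff_kaehler] at hxα
  have h1 := hω α
  rw [hωsum, map_sum] at h1
  simp only [map_smul, map_D, Algebra.algebraMap_self_apply] at h1
  rw [hωsum, Finset.sum_eq_zero]
  intro i _
  rw [Fintype.linearIndependent_iff.mp hxα (fun j => c j) h1 i, zero_smul]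

end Groth.Agent.EGA41Lib.SubfieldKaehler
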