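import Groth.Agent.AdicFS.Deriv
import Groth.Agent.AdicFS.Basic
import Mathlib

/-! Adic formal smoothness of a quotient (EGA 0_IV 22.6.1 (ii), Noetherian case). -/

universe u

noncomputable section

namespace Groth.Agent.EGA41Lib.AdicQuot

open TensorProduct KaehlerDifferential

variable {A B : Type u} [CommRing A] [CommRing B] [Algebra A B] (J : Ideal B) (Q : Ideal (B ⧸ J))


lemma algebraMap_surjective : Function.Surjective (algebraMap B ((B ⧸ J) ⧸ Q)) := fun y => by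
  obtain ⟨c, rfl⟩ := Ideal.Quotient.mk_surjective y
  obtain ⟨b, rfl⟩ := Ideal.Quotient.mk_surjective c
  exact ⟨b, rfl⟩

lemma ker_le : (RingHom.ker (algebraMap B (B ⧸ J))) ≤ (RingHom.ker (algebraMap B ((B ⧸ J) ⧸ Q))) := fun x hx => by
  show algebraMap B ((B ⧸ J) ⧸ Q) x = 0
  rw [IsScalarTower.algebraMap_apply B (B ⧸ J) ((B ⧸ J) ⧸ Q), RingHom.mem_ker.mp hx, map_zero]

lemma map_ker : ((RingHom.ker (algebraMap B ((B ⧸ J) ⧸ Q)))).map (algebraMap B (B ⧸ J)) = Q := by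
  have h : (RingHom.ker (algebraMap B ((B ⧸ J) ⧸ Q))) = Q.comap (algebraMap B (B ⧸ J)) := by
    ext x
    exact Ideal.Quotient.eq_zero_iff_mem
  rw [h, Ideal.map_comap_of_surjective (algebraMap B (B ⧸ J)) Ideal.Quotient.mk_surjective]

/-- A map out of `((B ⧸ J) ⧸ Q) ⊗ X` into a module killed by `(RingHom.ker (algebraMap B ((B ⧸ J) ⧸ Q)))`. -/
theorem exists_lift_tensor {X M : Type u} [AddCommGroup X] [Module B X] [AddCommGroup M] [Module B M]
    (hM : ∀ b ∈ (RingHom.ker (algebraMap B ((B ⧸ J) ⧸ Q))), ∀ y : M, b • y = 0) (l : X →ₗ[B] M) :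
    ∃ φ : ((B ⧸ J) ⧸ Q) ⊗[B] X →ₗ[B] M, ∀ x, φ (1 ⊗ₜ x) = l x := by
  let e : (B ⧸ (RingHom.ker (algebraMap B ((B ⧸ J) ⧸ Q)))) ≃ₐ[B] ((B ⧸ J) ⧸ Q) :=
    Ideal.quotientKerAlgEquivOfSurjective (f := Algebra.ofId B ((B ⧸ J) ⧸ Q)) (algebraMap_surjective J Q)
  let β : (B ⧸ (RingHom.ker (algebraMap B ((B ⧸ J) ⧸ Q)))) →ₗ[B] X →ₗ[B] M :=
    Submodule.liftQ (RingHom.ker (algebraMap B ((B ⧸ J) ⧸ Q))) (LinearMap.toSpanSingleton B (X →ₗ[B] M) l) fun b hb => by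
      ext x
      exact hM b hb _
  refine ⟨TensorProduct.lift (β ∘ₗ e.symm.toLinearMap), fun x => ?_⟩
  rw [TensorProduct.lift.tmul, LinearMap.comp_apply]
  show β (e.symm 1) x = l x
  rw [map_one]
  show ((1 : B) • l) x = l x
  rw [one_smul]

variable (hB : ∀ j : ℕ, ∀ (M : Type u) [AddCommGroup M] [Module B M] [Module A M] [IsScalarTower A B M],
  (∀ b ∈ (RingHom.ker (algebraMap B ((B ⧸ J) ⧸ Q))) ^ j, ∀ y : M, b • y = 0) → ∀ (M' : Type u) [AddCommGroup M'] [Module B M'] [Module A M']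
  [IsScalarTower A B M'] (f : M →ₗ[B] M'), Function.Surjective f → ∀ D' : Derivation A B M',
  ∃ D : Derivation A B M, ∀ b, f (D b) = D' b)
  (g : ((B ⧸ J) ⧸ Q) ⊗[B] ((B ⧸ J) ⊗[B] Ω[B⁄A]) →ₗ[((B ⧸ J) ⧸ Q)] ((B ⧸ J) ⧸ Q) ⊗[B] ((RingHom.ker (algebraMap B (B ⧸ J)))).Cotangent)
  (hg : g ∘ₗ LinearMap.baseChange ((B ⧸ J) ⧸ Q) (kerCotangentToTensor A B (B ⧸ J)) = LinearMap.id)

include hB hg in
/-- Linear maps on `J` extend to derivations. -/
theorem exists_derivation (j : ℕ) :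
    ∀ (M : Type u) [AddCommGroup M] [Module B M] [Module A M] [IsScalarTower A B M],
      (∀ x ∈ (RingHom.ker (algebraMap B (B ⧸ J))), ∀ y : M, x • y = 0) → (∀ b ∈ (RingHom.ker (algebraMap B ((B ⧸ J) ⧸ Q))) ^ j, ∀ y : M, b • y = 0) →
      ∀ l : (RingHom.ker (algebraMap B (B ⧸ J))) →ₗ[B] M, ∃ D : Derivation A B M, ∀ x : (RingHom.ker (algebraMap B (B ⧸ J))), D x = l x := by
  induction j with
  | zero =>
    intro M _ _ _ _ _ hM l
    refine ⟨0, fun x => ?_⟩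
    have := hM 1 (by simp) (l x)
    rw [one_smul] at this
    simp [this]
  | succ j ih =>
    intro M _ _ _ _ hKM hM l
    set P : Submodule B M := (RingHom.ker (algebraMap B ((B ⧸ J) ⧸ Q))) • ⊤ with hP
    have hq : ∀ b ∈ (RingHom.ker (algebraMap B ((B ⧸ J) ⧸ Q))), ∀ y : M ⧸ P, b • y = 0 := by
      intro b hb y
      obtain ⟨y, rfl⟩ := P.mkQ_surjective y
      rw [← map_smul, Submodule.mkQ_apply, Submodule.Quotient.mk_eq_zero]
      exact Submodule.smul_mem_smul hb trivial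
    let lbar : ((RingHom.ker (algebraMap B (B ⧸ J)))).Cotangent →ₗ[B] M ⧸ P :=
      Submodule.liftQ _ (P.mkQ ∘ₗ l) fun x hx => by
        refine Submodule.smul_induction_on hx (fun a ha y _ => ?_) fun y z hy hz => ?_
        · show P.mkQ (l (a • y)) = 0
          rw [map_smul, hKM a ha, map_zero]
        · exact (LinearMap.ker (P.mkQ ∘ₗ l)).add_mem hy hz
    obtain ⟨φ, hφ⟩ := exists_lift_tensor J Q hq lbar
    let D₁ : Derivation A B (M ⧸ P) :=
      ((φ ∘ₗ g.restrictScalars B) ∘ₗ TensorProduct.mk B ((B ⧸ J) ⧸ Q) ((B ⧸ J) ⊗[B] Ω[B⁄A]) 1 ∘ₗ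
        TensorProduct.mk B (B ⧸ J) Ω[B⁄A] 1).compDer (D A B)
    have hD₁ : ∀ x : (RingHom.ker (algebraMap B (B ⧸ J))), D₁ x = P.mkQ (l x) := by
      intro x
      show φ (g (1 ⊗ₜ[B] ((1 : (B ⧸ J)) ⊗ₜ[B] D A B (x : B)))) = _
      have h1 : g (1 ⊗ₜ[B] ((1 : (B ⧸ J)) ⊗ₜ[B] D A B (x : B))) = 1 ⊗ₜ[B] ((RingHom.ker (algebraMap B (B ⧸ J)))).toCotangent x :=
        DFunLike.congr_fun hg (1 ⊗ₜ[B] ((RingHom.ker (algebraMap B (B ⧸ J)))).toCotangent x)
      rw [h1, hφ]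
      rfl
    obtain ⟨D₂, hD₂⟩ := hB (j + 1) M hM (M ⧸ P) P.mkQ P.mkQ_surjective D₁
    have hres : ∀ x : (RingHom.ker (algebraMap B (B ⧸ J))), l x - D₂ x ∈ P := fun x => by
      rw [← Submodule.Quotient.mk_eq_zero]
      show P.mkQ (l x - D₂ x) = 0
      rw [map_sub, hD₂, hD₁, sub_self]
    let l' : (RingHom.ker (algebraMap B (B ⧸ J))) →ₗ[B] P :=
      { toFun := fun x => ⟨l x - D₂ x, hres x⟩
        map_add' := fun x y => Subtype.ext (by simp [sub_add_sub_comm])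
        map_smul' := fun b x => Subtype.ext (by
          show l (b • x) - D₂ (b * (x : B)) = b • (l x - D₂ x)
          rw [map_smul, D₂.leibniz, hKM (x : B) x.2, add_zero, smul_sub]) }
    obtain ⟨D₃, hD₃⟩ := ih P (fun x hx y => Subtype.ext (hKM x hx y)) (fun b hb y => Subtype.ext (by
      show b • (y : M) = 0
      refine Submodule.smul_induction_on y.2 (fun c hc m _ => ?_) fun y z hy hz => ?_
      · rw [smul_smul]; exact hM _ (pow_succ (RingHom.ker (algebraMap B ((B ⧸ J) ⧸ Q))) j ▸ Ideal.mul_mem_mul hb hc) m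
      · rw [smul_add, hy, hz, add_zero])) l'
    refine ⟨D₂ + P.subtype.compDer D₃, fun x => ?_⟩
    rw [Derivation.add_apply]
    show D₂ x + ((D₃ x : P) : M) = _
    rw [hD₃]
    exact add_sub_cancel _ _

variable {J Q}

/-- The left inverse gives adic formal smoothness of the quotient. -/
theorem of_leftInverse {I : Ideal B} (hI : CAlgX.IsAdicFormallySmooth A B I)
    (hIQ : ∃ n : ℕ, I ^ n ≤ (RingHom.ker (algebraMap B ((B ⧸ J) ⧸ Q))))
    (g : ((B ⧸ J) ⧸ Q) ⊗[B] ((B ⧸ J) ⊗[B] Ω[B⁄A]) →ₗ[((B ⧸ J) ⧸ Q)] ((B ⧸ J) ⧸ Q) ⊗[B] ((RingHom.ker (algebraMap B (B ⧸ J)))).Cotangent)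
    (hg : g ∘ₗ LinearMap.baseChange ((B ⧸ J) ⧸ Q) (kerCotangentToTensor A B (B ⧸ J)) = LinearMap.id) :
    CAlgX.IsAdicFormallySmooth A (B ⧸ J) Q := by
  obtain ⟨n, hn⟩ := hIQ
  intro E _ _ N hN ψ ⟨k, hk⟩
  have hQk : ∀ b ∈ (RingHom.ker (algebraMap B ((B ⧸ J) ⧸ Q))) ^ k, ψ (algebraMap B (B ⧸ J) b) = 0 := fun b hb => hk _ (by
    rw [show Q ^ k = ((RingHom.ker (algebraMap B ((B ⧸ J) ⧸ Q))) ^ k).map (algebraMap B (B ⧸ J)) by
      rw [Ideal.map_pow, map_ker J Q]]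
    exact Ideal.mem_map_of_mem _ hb)
  obtain ⟨v, hv⟩ := hI E N hN (ψ.comp (IsScalarTower.toAlgHom A B (B ⧸ J)))
    ⟨n * k, fun x hx => hQk x (by rw [pow_mul] at hx; exact Ideal.pow_right_mono hn k hx)⟩
  have hvψ : ∀ b, Ideal.Quotient.mk N (v b) = ψ (algebraMap B (B ⧸ J) b) := fun b => DFunLike.congr_fun hv b
  have hNN : ∀ x ∈ N, ∀ y ∈ N, x * y = 0 := fun x hx y hy => by
    have := Ideal.mul_mem_mul hx hy
    rwa [← pow_two, hN, Ideal.mem_bot] at this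
  letI : Module B N := Module.compHom N v.toRingHom
  letI : Module A N := inferInstance
  haveI : IsScalarTower A B N := IsScalarTower.of_algebraMap_smul fun a i => Subtype.ext (by
    show v (algebraMap A B a) * (i : E) = a • (i : E)
    rw [v.commutes, Algebra.smul_def])
  have hmemK : ∀ x : B, x ∈ (RingHom.ker (algebraMap B (B ⧸ J))) → v x ∈ N := fun x hx => by
    rw [← Ideal.Quotient.eq_zero_iff_mem, hvψ, RingHom.mem_ker.mp hx, map_zero]
  have hmemQ : ∀ x : B, x ∈ (RingHom.ker (algebraMap B ((B ⧸ J) ⧸ Q))) ^ k → v x ∈ N := fun x hx => by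
    rw [← Ideal.Quotient.eq_zero_iff_mem, hvψ, hQk x hx]
  let l : (RingHom.ker (algebraMap B (B ⧸ J))) →ₗ[B] N :=
    { toFun := fun x => ⟨v x, hmemK x x.2⟩
      map_add' := fun x y => Subtype.ext (by simp)
      map_smul' := fun b x => Subtype.ext (by
        show v (b * (x : B)) = v b * v x
        rw [map_mul]) }
  obtain ⟨D, hD⟩ := exists_derivation J Q (A := A) (fun j M _ _ _ _ hM M' _ _ _ _ f hf D' =>
      AdicFS.Deriv.exists_lift hI f hf (k := n * j)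
        (fun x hx y => hM x (by rw [pow_mul] at hx; exact Ideal.pow_right_mono hn j hx) y) D')
    g hg k N (fun x hx y => Subtype.ext (hNN _ (hmemK x hx) _ y.2))
    (fun b hb y => Subtype.ext (hNN _ (hmemQ b hb) _ y.2)) l
  let w : B →ₐ[A] E :=
    { toFun := fun b => v b - (D b : E)
      map_one' := by simp
      map_mul' := fun a b => by
        have h : (((a • D b + b • D a : N)) : E) = v a * (D b : E) + v b * (D a : E) := rfl
        rw [D.leibniz, h, map_mul]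
        linear_combination -(hNN _ (D a).2 _ (D b).2)
      map_zero' := by simp
      map_add' := fun a b => by simp [sub_add_sub_comm]
      commutes' := fun a => by simp }
  have hwK : ∀ x ∈ J, w x = 0 := fun x hx => by
    have hxK : x ∈ (RingHom.ker (algebraMap B (B ⧸ J))) := Ideal.Quotient.eq_zero_iff_mem.mpr hx
    show v x - (D x : E) = 0
    rw [show D x = l ⟨x, hxK⟩ from hD ⟨x, hxK⟩]
    exact sub_self _
  refine ⟨Ideal.Quotient.liftₐ J w hwK, AlgHom.ext fun c => ?_⟩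
  obtain ⟨b, rfl⟩ := Ideal.Quotient.mk_surjective c
  show Ideal.Quotient.mk N (v b - (D b : E)) = ψ _
  rw [map_sub, hvψ, Ideal.Quotient.eq_zero_iff_mem.mpr (D b).2, sub_zero]
  rfl

/-- Adic formal smoothness of the quotient gives the left inverse. -/
theorem exists_leftInverse [IsNoetherianRing B] (h : CAlgX.IsAdicFormallySmooth A (B ⧸ J) Q) :
    ∃ g : ((B ⧸ J) ⧸ Q) ⊗[B] ((B ⧸ J) ⊗[B] Ω[B⁄A]) →ₗ[((B ⧸ J) ⧸ Q)] ((B ⧸ J) ⧸ Q) ⊗[B] ((RingHom.ker (algebraMap B (B ⧸ J)))).Cotangent,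
      g ∘ₗ LinearMap.baseChange ((B ⧸ J) ⧸ Q) (kerCotangentToTensor A B (B ⧸ J)) = LinearMap.id := by
  obtain ⟨k, hk⟩ := Ideal.exists_pow_inf_eq_pow_smul (RingHom.ker (algebraMap B ((B ⧸ J) ⧸ Q))) ((RingHom.ker (algebraMap B (B ⧸ J))) : Submodule B B)
  have hAR : (RingHom.ker (algebraMap B ((B ⧸ J) ⧸ Q))) ^ (k + 1) ⊓ (RingHom.ker (algebraMap B (B ⧸ J))) ≤ (RingHom.ker (algebraMap B ((B ⧸ J) ⧸ Q))) * (RingHom.ker (algebraMap B (B ⧸ J))) := by
    have h1 := hk (k + 1) (Nat.le_succ k)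
    rw [Nat.add_sub_cancel_left, pow_one, smul_eq_mul, Ideal.mul_top] at h1
    rw [h1]
    exact Submodule.smul_mono le_rfl inf_le_right
  let a : Ideal B := (RingHom.ker (algebraMap B ((B ⧸ J) ⧸ Q))) * (RingHom.ker (algebraMap B (B ⧸ J))) ⊔ (RingHom.ker (algebraMap B ((B ⧸ J) ⧸ Q))) ^ (k + 1)
  let J' : Ideal (B ⧸ a) := ((RingHom.ker (algebraMap B (B ⧸ J)))).map (Ideal.Quotient.mk a)
  let r : (RingHom.ker (algebraMap B (B ⧸ J))) →ₗ[B] B ⧸ a := (Submodule.mkQ a) ∘ₗ (Submodule.subtype (RingHom.ker (algebraMap B (B ⧸ J))))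
  have hJ'mem : ∀ y, y ∈ J' → y ∈ LinearMap.range r := fun y hy => by
    obtain ⟨z, hz, rfl⟩ := (Ideal.mem_map_iff_of_surjective _ Ideal.Quotient.mk_surjective).mp hy
    exact ⟨⟨z, hz⟩, rfl⟩
  have hJ'2 : J' ^ 2 = ⊥ := by
    rw [pow_two, eq_bot_iff, Ideal.mul_le]
    intro y hy z hz
    obtain ⟨y₀, hy₀, rfl⟩ := (Ideal.mem_map_iff_of_surjective _ Ideal.Quotient.mk_surjective).mp hy
    obtain ⟨z₀, hz₀, rfl⟩ := (Ideal.mem_map_iff_of_surjective _ Ideal.Quotient.mk_surjective).mp hz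
    rw [← map_mul, Ideal.mem_bot, Ideal.Quotient.eq_zero_iff_mem]
    exact Submodule.mem_sup_left (Ideal.mul_mem_mul (ker_le J Q hy₀) hz₀)
  let f : B →ₐ[A] (B ⧸ a) ⧸ J' := (Ideal.Quotient.mkₐ A J').comp (Ideal.Quotient.mkₐ A a)
  have hf : ∀ y ∈ J, f y = 0 := fun y hy =>
    Ideal.Quotient.eq_zero_iff_mem.mpr (Ideal.mem_map_of_mem _ (Ideal.Quotient.eq_zero_iff_mem.mpr hy))
  let ψ : (B ⧸ J) →ₐ[A] (B ⧸ a) ⧸ J' := Ideal.Quotient.liftₐ J f hf
  have hψcont : ∀ c ∈ Q ^ (k + 1), ψ c = 0 := by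
    intro c hc
    rw [show Q ^ (k + 1) = ((RingHom.ker (algebraMap B ((B ⧸ J) ⧸ Q))) ^ (k + 1)).map (algebraMap B (B ⧸ J)) by rw [Ideal.map_pow, map_ker]] at hc
    obtain ⟨b, hb, rfl⟩ := (Ideal.mem_map_iff_of_surjective _ Ideal.Quotient.mk_surjective).mp hc
    show f b = 0
    show Ideal.Quotient.mk J' (Ideal.Quotient.mk a b) = 0
    rw [Ideal.Quotient.eq_zero_iff_mem.mpr (Submodule.mem_sup_right hb : b ∈ a), map_zero]
  obtain ⟨χ, hχ⟩ := h (B ⧸ a) J' hJ'2 ψ ⟨k + 1, hψcont⟩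
  have hmem : ∀ b, Ideal.Quotient.mk a b - χ (algebraMap B (B ⧸ J) b) ∈ J' := by
    intro b
    rw [← Ideal.Quotient.eq]
    exact (DFunLike.congr_fun hχ (algebraMap B (B ⧸ J) b)).symm
  let δ : Derivation A B (B ⧸ a) :=
  { toFun := fun b => Ideal.Quotient.mk a b - χ (algebraMap B (B ⧸ J) b)
    map_add' := fun b c => by simp only [map_add]; abel
    map_smul' := fun r b => by
      simp only [RingHom.id_apply, Algebra.smul_def, map_mul, ← IsScalarTower.algebraMap_apply,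
        AlgHom.commutes, mul_sub]
      rfl
    map_one_eq_zero' := by simp
    leibniz' := fun b c => by
      have h0 : (Ideal.Quotient.mk a b - χ (algebraMap B (B ⧸ J) b)) *
          (Ideal.Quotient.mk a c - χ (algebraMap B (B ⧸ J) c)) = 0 := by
        rw [← Ideal.mem_bot, ← hJ'2, pow_two]
        exact Ideal.mul_mem_mul (hmem b) (hmem c)
      show Ideal.Quotient.mk a (b * c) - χ (algebraMap B (B ⧸ J) (b * c)) = _
      simp only [map_mul, Algebra.smul_def, Ideal.Quotient.algebraMap_eq, LinearMap.coe_mk,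
        AddHom.coe_mk]
      linear_combination -h0 }
  let m : (RingHom.ker (algebraMap B (B ⧸ J))) →ₗ[B] ((B ⧸ J) ⧸ Q) ⊗[B] ((RingHom.ker (algebraMap B (B ⧸ J)))).Cotangent := TensorProduct.mk B ((B ⧸ J) ⧸ Q) ((RingHom.ker (algebraMap B (B ⧸ J)))).Cotangent 1 ∘ₗ ((RingHom.ker (algebraMap B (B ⧸ J)))).toCotangent
  have hker : LinearMap.ker r ≤ LinearMap.ker m := by
    intro x hx
    have hxa : (x : B) ∈ a := (Submodule.Quotient.mk_eq_zero a).mp hx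
    obtain ⟨y, hy, z, hz, hyz⟩ := Submodule.mem_sup.mp hxa
    have hzK : z ∈ (RingHom.ker (algebraMap B (B ⧸ J))) := by
      rw [show z = (x : B) - y by rw [← hyz]; ring]
      exact sub_mem x.2 ((Ideal.mul_le_right : (RingHom.ker (algebraMap B ((B ⧸ J) ⧸ Q))) * (RingHom.ker (algebraMap B (B ⧸ J))) ≤ (RingHom.ker (algebraMap B (B ⧸ J)))) hy)
    have hxQK : (x : B) ∈ (RingHom.ker (algebraMap B ((B ⧸ J) ⧸ Q))) * (RingHom.ker (algebraMap B (B ⧸ J))) := hyz ▸ add_mem hy (hAR ⟨hz, hzK⟩)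
    have hx' : x ∈ (RingHom.ker (algebraMap B ((B ⧸ J) ⧸ Q))) • (⊤ : Submodule B (RingHom.ker (algebraMap B (B ⧸ J)))) := (Submodule.mem_smul_top_iff (RingHom.ker (algebraMap B ((B ⧸ J) ⧸ Q))) (RingHom.ker (algebraMap B (B ⧸ J))) x).mpr hxQK
    refine Submodule.smul_induction_on hx' (fun c hc y _ => ?_) fun y z hy hz => (LinearMap.ker m).add_mem hy hz
    show m (c • y) = 0
    rw [map_smul]
    show c • ((1 : ((B ⧸ J) ⧸ Q)) ⊗ₜ[B] ((RingHom.ker (algebraMap B (B ⧸ J)))).toCotangent y) = 0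
    rw [TensorProduct.smul_tmul', Algebra.smul_def (A := (B ⧸ J) ⧸ Q), RingHom.mem_ker.mp hc, zero_mul, TensorProduct.zero_tmul]
  let ν : LinearMap.range r →ₗ[B] ((B ⧸ J) ⧸ Q) ⊗[B] ((RingHom.ker (algebraMap B (B ⧸ J)))).Cotangent :=
    (LinearMap.ker r).liftQ m hker ∘ₗ r.quotKerEquivRange.symm.toLinearMap
  have hν : ∀ x : (RingHom.ker (algebraMap B (B ⧸ J))), ν ⟨r x, ⟨x, rfl⟩⟩ = m x := fun x => by
    show (LinearMap.ker r).liftQ m hker (r.quotKerEquivRange.symm ⟨r x, ⟨x, rfl⟩⟩) = m x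
    rw [show r.quotKerEquivRange.symm ⟨r x, ⟨x, rfl⟩⟩ = Submodule.Quotient.mk x from
      (LinearEquiv.symm_apply_eq _).mpr (Subtype.ext rfl)]
    rfl
  let δ' : Derivation A B (LinearMap.range r) := Derivation.mk'
    { toFun := fun b => ⟨δ b, hJ'mem _ (hmem b)⟩
      map_add' := fun b c => Subtype.ext (δ.map_add b c)
      map_smul' := fun s b => Subtype.ext (δ.map_smul s b) }
    (fun b c => Subtype.ext (δ.leibniz b c))
  let D₀ : Derivation A B (((B ⧸ J) ⧸ Q) ⊗[B] ((RingHom.ker (algebraMap B (B ⧸ J)))).Cotangent) := ν.compDer δ'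
  have hD₀ : ∀ x : (RingHom.ker (algebraMap B (B ⧸ J))), D₀ x = m x := fun x => by
    show ν (δ' x) = m x
    rw [← hν x]
    congr 1
    refine Subtype.ext ?_
    show Ideal.Quotient.mk a (x : B) - χ (algebraMap B (B ⧸ J) x) = Ideal.Quotient.mk a (x : B)
    rw [RingHom.mem_ker.mp x.2, map_zero, sub_zero]
  refine ⟨LinearMap.liftBaseChange ((B ⧸ J) ⧸ Q) ((LinearMap.liftBaseChange (B ⧸ J) D₀.liftKaehlerDifferential).restrictScalars B),
    LinearMap.ext fun t => ?_⟩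
  induction t with
  | zero => simp
  | add y z hy hz => rw [map_add, map_add, hy, hz]
  | tmul c ξ =>
    obtain ⟨x, rfl⟩ := ((RingHom.ker (algebraMap B (B ⧸ J)))).toCotangent_surjective ξ
    rw [LinearMap.comp_apply, LinearMap.baseChange_tmul, LinearMap.liftBaseChange_tmul,
      LinearMap.restrictScalars_apply, kerCotangentToTensor_toCotangent, LinearMap.liftBaseChange_tmul,
      one_smul, Derivation.liftKaehlerDifferential_comp_D, hD₀, LinearMap.id_apply]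
    show c • ((1 : ((B ⧸ J) ⧸ Q)) ⊗ₜ[B] ((RingHom.ker (algebraMap B (B ⧸ J)))).toCotangent x) = _
    rw [TensorProduct.smul_tmul', smul_eq_mul, mul_one]

end Groth.Agent.EGA41Lib.AdicQuot
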