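import Groth.Agent.SpecTop.Basic
import Mathlib

/-! The constructible topology of a quasi-separated, quasi-sober, prespectral `T0` space, which is
locally spectral. -/

open Set Topology TopologicalSpace Set.Notation

namespace Groth.Agent.EGA41Lib.ConsTop

universe u

lemma compactlyCoherentSpace_of_t2_wlc {Z : Type u} [TopologicalSpace Z] [T2Space Z]
    [WeaklyLocallyCompactSpace Z] : CompactlyCoherentSpace Z := inferInstance

variable {X : Type u} [tX : TopologicalSpace X]

local notation "cons" => constructibleTopology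

variable (X) in
lemma cons_le [PrespectralSpace X] : cons X ≤ tX := by
  conv_rhs => rw [PrespectralSpace.isTopologicalBasis.eq_generateFrom (t := tX)]
  exact le_generateFrom fun U hU => SpecTop.isOpen_cons_of_compactOpen hU.1 hU.2

variable [T0Space X] [QuasiSober X] [PrespectralSpace X] [QuasiSeparatedSpace X]

lemma spectralSpace_subtype {U : Set X} (hU : IsOpen U) (hUc : IsCompact U) : SpectralSpace U :=
  haveI : CompactSpace U := isCompact_iff_compactSpace.mp hUc
  haveI : QuasiSober U := hU.isOpenEmbedding_subtypeVal.quasiSober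
  haveI : QuasiSeparatedSpace U := hU.isOpenEmbedding_subtypeVal.quasiSeparatedSpace
  haveI : PrespectralSpace U := hU.isOpenEmbedding_subtypeVal.prespectralSpace
  {}

lemma isSpectralMap_val {U : Set X} (hU : IsOpen U) (hUc : IsCompact U) :
    IsSpectralMap (Subtype.val : U → X) :=
  ⟨continuous_subtype_val, fun V hV hVc => by
    rw [IsEmbedding.subtypeVal.isCompact_iff, Subtype.image_preimage_coe]
    exact hUc.inter_of_isOpen hVc hU hV⟩

lemma cons_subtype {U : Set X} (hU : IsOpen U) (hUc : IsCompact U) :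
    TopologicalSpace.induced Subtype.val (cons X) = cons U := by
  refine le_antisymm (le_generateFrom ?_)
    (continuous_iff_le_induced.mp (SpecTop.continuous_cons_of_isSpectralMap (isSpectralMap_val hU hUc)))
  rintro s (⟨ho, hc⟩ | ⟨ho, hc⟩)
  · exact ⟨Subtype.val '' s, SpecTop.isOpen_cons_of_compactOpen (hU.isOpenMap_subtype_val _ ho)
      (hc.image continuous_subtype_val), preimage_image_eq _ Subtype.val_injective⟩
  · refine ⟨(Subtype.val '' sᶜ)ᶜ, ?_, by rw [preimage_compl, preimage_image_eq _ Subtype.val_injective, compl_compl]⟩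
    exact @IsClosed.isOpen_compl X (cons X) _
      (SpecTop.isClosed_cons_of_compactOpen (hU.isOpenMap_subtype_val _ ho.isOpen_compl)
        (hc.image continuous_subtype_val))

lemma isCompact_cons {U : Set X} (hU : IsOpen U) (hUc : IsCompact U) : @IsCompact X (cons X) U := by
  haveI := spectralSpace_subtype hU hUc
  have h := @isCompact_range U X (cons U) (cons X) (SpecTop.compactSpace_cons U) _
    (SpecTop.continuous_cons_of_isSpectralMap (isSpectralMap_val hU hUc))
  rwa [Subtype.range_coe] at h

lemma exists_compactOpen_mem (x : X) : ∃ U : Set X, IsOpen U ∧ IsCompact U ∧ x ∈ U := by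
  obtain ⟨U, ⟨hU, hUc⟩, hxU, -⟩ :=
    PrespectralSpace.isTopologicalBasis.exists_subset_of_mem_open (mem_univ x) isOpen_univ
  exact ⟨U, hU, hUc, hxU⟩

omit [QuasiSober X] [QuasiSeparatedSpace X] in
lemma totallySeparatedSpace_cons : @TotallySeparatedSpace X (cons X) := by
  refine (@totallySeparatedSpace_iff_exists_isClopen X (cons X)).2 fun x y h => ?_
  obtain ⟨O, hO, hxy⟩ := exists_isOpen_xor_mem h
  rcases hxy with ⟨hx, hy⟩ | ⟨hy, hx⟩
  · obtain ⟨U, ⟨hU, hUc⟩, hxU, hUO⟩ :=
      PrespectralSpace.isTopologicalBasis.exists_subset_of_mem_open hx hO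
    exact ⟨U, SpecTop.isClopen_cons_of_compactOpen hU hUc, hxU, fun h' => hy (hUO h')⟩
  · obtain ⟨U, ⟨hU, hUc⟩, hyU, hUO⟩ :=
      PrespectralSpace.isTopologicalBasis.exists_subset_of_mem_open hy hO
    exact ⟨Uᶜ, @IsClopen.compl X (cons X) _ (SpecTop.isClopen_cons_of_compactOpen hU hUc),
      fun h' => hx (hUO h'), fun h' => h' hyU⟩

lemma t2Space_cons : @T2Space X (cons X) :=
  @TotallySeparatedSpace.t2Space X (cons X) totallySeparatedSpace_cons

lemma weaklyLocallyCompactSpace_cons : @WeaklyLocallyCompactSpace X (cons X) :=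
  @WeaklyLocallyCompactSpace.mk X (cons X) fun x => by
    obtain ⟨U, hU, hUc, hx⟩ := exists_compactOpen_mem x
    exact ⟨U, isCompact_cons hU hUc,
      @IsOpen.mem_nhds X (cons X) x U (SpecTop.isOpen_cons_of_compactOpen hU hUc) hx⟩

lemma isClopen_cons_iff_forall_compactOpen {E : Set X} :
    @IsClopen X (cons X) E ↔
      ∀ x, ∃ (W : Set X), IsOpen W ∧ IsCompact W ∧ x ∈ W ∧ IsConstructible (W ↓∩ E) := by
  constructor
  · intro hE x
    obtain ⟨W, hW, hWc, hx⟩ := exists_compactOpen_mem x
    haveI := spectralSpace_subtype hW hWc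
    refine ⟨W, hW, hWc, hx, SpecTop.isConstructible_of_isClopen_cons ?_⟩
    rw [← cons_subtype hW hWc]
    exact @IsClopen.preimage W X (TopologicalSpace.induced Subtype.val (cons X)) (cons X) E hE _
      continuous_induced_dom
  · intro h
    have key : ∀ x, ∃ W : Set X, x ∈ W ∧ IsOpen[cons X] (W ∩ E) ∧ IsOpen[cons X] (W ∩ Eᶜ) := by
      intro x
      obtain ⟨W, hW, hWc, hx, hE⟩ := h x
      haveI := spectralSpace_subtype hW hWc
      have hc := SpecTop.isClopen_cons_of_isConstructible hE
      have hWo := SpecTop.isOpen_cons_of_compactOpen hW hWc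
      have hop : ∀ s : Set W, IsOpen[cons W] s → IsOpen[cons X] (Subtype.val '' s) := by
        intro s hs
        rw [← cons_subtype hW hWc] at hs
        obtain ⟨t, ht, rfl⟩ := hs
        rw [Subtype.image_preimage_coe]
        exact @IsOpen.inter X (cons X) _ _ hWo ht
      refine ⟨W, hx, ?_, ?_⟩
      · have := hop _ hc.2
        rwa [Subtype.image_preimage_coe] at this
      · have := hop _ (@IsClosed.isOpen_compl W (cons W) _ hc.1)
        rwa [← preimage_compl, Subtype.image_preimage_coe] at this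
    choose W hx h₁ h₂ using key
    refine ⟨@IsClosed.mk X (cons X) E ?_, ?_⟩
    · exact (@isOpen_iff_forall_mem_open X (cons X) _).mpr fun x hxE =>
        ⟨_, inter_subset_right, h₂ x, hx x, hxE⟩
    · exact (@isOpen_iff_forall_mem_open X (cons X) _).mpr fun x hxE =>
        ⟨_, inter_subset_right, h₁ x, hx x, hxE⟩

lemma isLocallyConstructible_iff {E : Set X} :
    IsLocallyConstructible E ↔ @IsClopen X (cons X) E := by
  rw [isClopen_cons_iff_forall_compactOpen]
  constructor
  · intro h x
    obtain ⟨U, hxU, hU, hE⟩ := h x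
    obtain ⟨W, ⟨hW, hWc⟩, hx, hWU⟩ :=
      PrespectralSpace.isTopologicalBasis.exists_subset_of_mem_open (mem_of_mem_nhds hxU) hU
    exact ⟨W, hW, hWc, hx, hE.preimage_of_isOpenEmbedding (f := Set.inclusion hWU) ⟨IsEmbedding.inclusion hWU, by rw [Set.range_inclusion]; exact (show IsOpen W from hW).preimage continuous_subtype_val⟩⟩
  · intro h x
    obtain ⟨W, hW, _, hx, hE⟩ := h x
    exact ⟨W, hW.mem_nhds hx, hW, hE⟩

lemma isProperMap_cons_iff {Y : Type u} [TopologicalSpace Y] [T0Space Y] [QuasiSober Y]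
    [PrespectralSpace Y] [QuasiSeparatedSpace Y] {f : X → Y} (hf : Continuous f) :
    @IsProperMap X Y (cons X) (cons Y) f ↔ IsSpectralMap f := by
  constructor
  · intro h
    refine ⟨hf, fun V hV hVc => ?_⟩
    have h1 := @IsProperMap.isCompact_preimage X Y (cons X) (cons Y) f h V (isCompact_cons hV hVc)
    have h2 := @IsCompact.image X X (cons X) _ _ id h1 (continuous_id_of_le (cons_le X))
    rwa [image_id] at h2
  · intro h
    have hcont := SpecTop.continuous_cons_of_isSpectralMap h
    refine (@isProperMap_iff_isCompact_preimage X Y (cons X) (cons Y) t2Space_cons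
      (@compactlyCoherentSpace_of_t2_wlc Y (cons Y) t2Space_cons weaklyLocallyCompactSpace_cons) f).mpr
      ⟨hcont, fun K hK => ?_⟩
    have hcov : K ⊆ ⋃ V : {V : Set Y // IsOpen V ∧ IsCompact V}, (V : Set Y) := fun y _ => by
      obtain ⟨V, hV, hVc, hy⟩ := exists_compactOpen_mem y
      exact mem_iUnion.mpr ⟨⟨V, hV, hVc⟩, hy⟩
    obtain ⟨t, ht⟩ := @IsCompact.elim_finite_subcover Y (cons Y) K _ hK (fun V : {V : Set Y // IsOpen V ∧ IsCompact V} => (V : Set Y))
      (fun V => SpecTop.isOpen_cons_of_compactOpen V.2.1 V.2.2) hcov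
    refine @IsCompact.of_isClosed_subset X (cons X) _ _
      (@Finset.isCompact_biUnion X _ (cons X) t (fun V => f ⁻¹' (V : Set Y)) fun V _ =>
        isCompact_cons (V.2.1.preimage hf) (h.isCompact_preimage_of_isOpen V.2.1 V.2.2))
      (@IsClosed.preimage X Y (cons X) (cons Y) f hcont K
        (@IsCompact.isClosed Y (cons Y) t2Space_cons K hK)) fun x hx => ?_
    obtain ⟨V, hV, hxV⟩ := mem_iUnion₂.mp (ht hx)
    exact mem_iUnion₂.mpr ⟨V, hV, hxV⟩

end Groth.Agent.EGA41Lib.ConsTop
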