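import Mathlib
import Groth.Agent.LocFlat.Basic
import Groth.Agent.LocFlat.Artinian

/-!
Regular sequences and flatness over the base of a local homomorphism.
-/

set_option autoImplicit false
set_option linter.style.haveILetI false
universe u

open RingTheory.Sequence TensorProduct Function
open scoped Pointwise

namespace Groth.Agent.EGA41Lib

variable {B : Type u} [CommRing B] {M : Type u} [AddCommGroup M] [Module B M]

/-- `(M/KM)/f(M/KM) = (M/fM)/K(M/fM)`. -/
noncomputable def quotSMulTopQuotEquiv (K : Ideal B) (f : B) :
    QuotSMulTop f (M ⧸ (K • (⊤ : Submodule B M))) ≃ₗ[B]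
      QuotSMulTop f M ⧸ (K • (⊤ : Submodule B (QuotSMulTop f M))) := by
  refine ((Submodule.quotEquivOfEq _ ((f • (⊤ : Submodule B M) ⊔ K • ⊤).map (K • (⊤ : Submodule B M)).mkQ) ?_).trans
    ((Submodule.quotientQuotientEquivQuotient _ _ le_sup_right).trans
      ((Submodule.quotientQuotientEquivQuotient (f • (⊤ : Submodule B M)) _ le_sup_left).symm.trans
        (Submodule.quotEquivOfEq _ _ ?_))))
  · rw [← Submodule.ideal_span_singleton_smul, ← Submodule.ideal_span_singleton_smul,
      Submodule.map_sup, Submodule.map_smul'', Submodule.map_top, Submodule.range_mkQ,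
      Submodule.mkQ_map_self, sup_bot_eq]
  · rw [Submodule.map_sup, Submodule.mkQ_map_self, bot_sup_eq, Submodule.map_smul'', Submodule.map_top,
      Submodule.range_mkQ]

/-- `f • (M/(fs)M)` modulo: `(M/(fs))/f = M/(fs ++ [f])`. -/
noncomputable def quotSMulTopQuotOfListEquiv (fs : List B) (f : B) :
    QuotSMulTop f (M ⧸ (Ideal.ofList fs • (⊤ : Submodule B M))) ≃ₗ[B]
      M ⧸ (Ideal.ofList (fs ++ [f]) • (⊤ : Submodule B M)) := by
  refine ((Submodule.quotEquivOfEq _
    ((Ideal.ofList (fs ++ [f]) • (⊤ : Submodule B M)).map (Ideal.ofList fs • (⊤ : Submodule B M)).mkQ) ?_).trans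
    (Submodule.quotientQuotientEquivQuotient _ _ ?_))
  · rw [Ideal.ofList_append, Ideal.ofList_singleton, Submodule.sup_smul, Submodule.map_sup,
      Submodule.mkQ_map_self, bot_sup_eq, Submodule.map_smul'', Submodule.map_top, Submodule.range_mkQ,
      Submodule.ideal_span_singleton_smul]
  · rw [Ideal.ofList_append]
    exact Submodule.smul_mono le_sup_left le_rfl

variable {A : Type u} [CommRing A] [Algebra A B] [Module A M] [IsScalarTower A B M]

theorem smul_top_restrictScalars (I : Ideal A) :
    I • (⊤ : Submodule A M) = ((I.map (algebraMap A B)) • (⊤ : Submodule B M)).restrictScalars A := by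
  refine le_antisymm (Submodule.smul_le.mpr fun a ha m _ => ?_) fun m hm => ?_
  · rw [Submodule.restrictScalars_mem, ← algebraMap_smul B a m]
    exact Submodule.smul_mem_smul (Ideal.mem_map_of_mem _ ha) Submodule.mem_top
  · rw [Submodule.restrictScalars_mem] at hm
    refine Submodule.smul_induction_on (p := fun m => m ∈ I • (⊤ : Submodule A M)) hm
      (fun b hb n _ => ?_) fun x y hx hy => add_mem hx hy
    induction hb using Submodule.span_induction generalizing n with
    | mem c hc =>
      obtain ⟨a, ha, rfl⟩ := hc
      rw [algebraMap_smul]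
      exact Submodule.smul_mem_smul ha Submodule.mem_top
    | zero => rw [zero_smul]; exact zero_mem _
    | add x y _ _ hx hy => rw [add_smul]; exact add_mem (hx n trivial) (hy n trivial)
    | smul c x _ hx => rw [smul_eq_mul, mul_comm, mul_smul]; exact hx (c • n) trivial

set_option maxHeartbeats 1000000 in
/-- Multiplication by a regular element with flat cokernel stays injective after any base change. -/
theorem lTensor_lsmul_injective (r : B) (hr : IsSMulRegular M r) [Module.Flat A (QuotSMulTop r M)]
    (Q : Type u) [AddCommGroup Q] [Module A Q] :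
    Injective (LinearMap.lTensor Q (((LinearMap.lsmul B M) r).restrictScalars A)) := by
  let π : M →ₗ[A] QuotSMulTop r M := (r • (⊤ : Submodule B M)).mkQ.restrictScalars A
  let s : M →ₗ[A] M := ((LinearMap.lsmul B M) r).restrictScalars A
  have hex : Exact s π := fun x => by
    simp [s, π, Submodule.Quotient.mk_eq_zero, Submodule.mem_smul_pointwise_iff_exists]
  have hπ : Surjective π := Submodule.mkQ_surjective _
  exact LocFlat.lTensor_injective_of_flat_coker s π hex hπ hr Q

section Local

variable [IsLocalRing A] [IsLocalRing B] [IsNoetherianRing B] [IsLocalHom (algebraMap A B)]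
  [Module.Finite B M]

/-- An element regular on the closed fibre of a flat module is regular with flat quotient. -/
theorem regular_and_flat_of_fibre [Module.Flat A M] (f : B)
    (h : IsSMulRegular (M ⧸ ((IsLocalRing.maximalIdeal A).map (algebraMap A B) • (⊤ : Submodule B M))) f) :
    IsSMulRegular M f ∧ Module.Flat A (QuotSMulTop f M) := by
  let u : M →ₗ[A] M := ((LinearMap.lsmul B M) f).restrictScalars A
  set m := IsLocalRing.maximalIdeal A
  let e := TensorProduct.quotTensorEquivQuotSMul M m
  have hu : Injective (u.lTensor (A ⧸ m)) := by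
    rw [injective_iff_map_eq_zero]
    intro z hz
    obtain ⟨x, rfl⟩ := TensorProduct.mk_surjective A M (A ⧸ m) Ideal.Quotient.mk_surjective z
    have hz' := congrArg e hz
    simp only [TensorProduct.mk_apply, LinearMap.lTensor_tmul, map_zero, e,
      TensorProduct.quotTensorEquivQuotSMul_mk_one_tmul, Submodule.Quotient.mk_eq_zero] at hz'
    rw [smul_top_restrictScalars (B := B), Submodule.restrictScalars_mem] at hz'
    apply e.injective
    simp only [TensorProduct.mk_apply, map_zero, e,
      TensorProduct.quotTensorEquivQuotSMul_mk_one_tmul, Submodule.Quotient.mk_eq_zero]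
    rw [smul_top_restrictScalars (B := B), Submodule.restrictScalars_mem, ← Submodule.Quotient.mk_eq_zero]
    refine h ?_
    show f • Submodule.Quotient.mk x = f • (0 : M ⧸ _)
    rw [smul_zero, ← Submodule.Quotient.mk_smul, Submodule.Quotient.mk_eq_zero]
    exact hz'
  obtain ⟨h1, h2⟩ := LocFlat.injective_and_flat_coker (S := B) u hu
  refine ⟨h1, ?_⟩
  haveI := h2
  refine Module.Flat.of_linearEquiv ((Submodule.Quotient.restrictScalarsEquiv A
    (f • (⊤ : Submodule B M))).symm.trans (Submodule.quotEquivOfEq _ (LinearMap.range u) ?_))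
  ext x
  simp [u, Submodule.mem_smul_pointwise_iff_exists]

set_option maxHeartbeats 1000000 in
/-- If `M/fM` is flat and `f` is regular in the maximal ideal, then `M` is flat. -/
theorem flat_of_flat_quotSMulTop [IsNoetherianRing A] (f : B) (hf : f ∈ IsLocalRing.maximalIdeal B)
    (hreg : IsSMulRegular M f) [Module.Flat A (QuotSMulTop f M)] : Module.Flat A M := by
  set m := IsLocalRing.maximalIdeal A
  letI : Field (A ⧸ m) := Ideal.Quotient.field m
  refine LocFlat.flat_criterion (S := B) M m (LocFlat.map_le_jacobson m (Ideal.IsPrime.ne_top')) ?_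
    inferInstance
  rw [← LinearMap.lTensor_inj_iff_rTensor_inj]
  haveI : Module.Finite B (M ⊗[A] m) := LocFlat.finite_tensor M m
  let μ : M ⊗[A] m →ₗ[B] M ⊗[A] A := AlgebraTensorModule.lTensor B M m.subtype
  -- reduction modulo `f`
  let π : M →ₗ[A] QuotSMulTop f M := (f • (⊤ : Submodule B M)).mkQ.restrictScalars A
  let s : M →ₗ[A] M := ((LinearMap.lsmul B M) f).restrictScalars A
  have hex : Exact s π := fun x => by
    simp [s, π, Submodule.Quotient.mk_eq_zero, Submodule.mem_smul_pointwise_iff_exists]
  have hπ : Surjective π := Submodule.mkQ_surjective _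
  have hsm : ∀ w : M ⊗[A] m, s.rTensor m w = f • w := fun w => by
    induction w with
    | zero => simp
    | tmul x y => simp [s, smul_tmul']
    | add a b ha hb => rw [map_add, ha, hb, smul_add]
  have hker : LinearMap.ker μ ≤ Ideal.span {f} • LinearMap.ker μ := by
    intro z hz
    have hz0 : π.rTensor m z = 0 := by
      apply Module.Flat.lTensor_preserves_injective_linearMap (M := QuotSMulTop f M) m.subtype
        m.injective_subtype
      rw [map_zero]
      have h1 : m.subtype.lTensor M z = 0 := hz
      rw [← LinearMap.comp_apply, LinearMap.lTensor_comp_rTensor, ← LinearMap.rTensor_comp_lTensor,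
        LinearMap.comp_apply, h1, map_zero]
    obtain ⟨w, rfl⟩ := ((rTensor_exact m hex hπ) z).mp hz0
    rw [hsm] at hz ⊢
    refine Submodule.smul_mem_smul (Ideal.mem_span_singleton_self f) ?_
    rw [LinearMap.mem_ker, map_smul] at hz
    rw [LinearMap.mem_ker]
    have hinj : IsSMulRegular (M ⊗[A] A) f := by
      have e : (M ⊗[A] A) ≃ₗ[B] M := AlgebraTensorModule.rid A B M
      exact (e.isSMulRegular_congr f).mpr hreg
    exact hinj (hz.trans (smul_zero f).symm)
  haveI : IsNoetherian B (M ⊗[A] m) := isNoetherian_of_isNoetherianRing_of_finite B _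
  have := Submodule.eq_bot_of_le_smul_of_le_jacobson_bot (Ideal.span {f}) (LinearMap.ker μ)
    (IsNoetherian.noetherian _) hker
    (((Ideal.span_singleton_le_iff_mem _).mpr hf).trans (IsLocalRing.maximalIdeal_le_jacobson _))
  exact fun x y hxy => (LinearMap.ker_eq_bot.mp this : Injective μ) hxy

end Local

end Groth.Agent.EGA41Lib
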