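import Groth.Agent.EtMilLib.TorSeq
import Groth.Agent.RegLoc.PD
import Groth.Agent.TorOne.Basic
import Mathlib

/-! Dimension shifting for `Tor` in the second variable. -/

universe u

open CategoryTheory CategoryTheory.Limits MonoidalCategory

namespace Groth.Agent.EGA41Lib.TorShift

open DRing.Tensor DRing.KFlat DRing.SingleTensor HTor95.Tor EtMilLib

variable {A : Type u} [CommRing A]

/-- `Tor_{n+2}(N, X₃) = 0` iff `Tor_{n+1}(N, X₁) = 0` when the middle term is projective. -/
theorem isZero_tor_succ_iff (N : ModuleCat.{u} A) {S : ShortComplex (ModuleCat.{u} A)}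
    (hS : S.ShortExact) [Projective S.X₂] (n : ℕ) :
    IsZero (((Tor (ModuleCat.{u} A) (n + 2)).obj N).obj S.X₃) ↔
      IsZero (((Tor (ModuleCat.{u} A) (n + 1)).obj N).obj S.X₁) := by
  let P := projectiveResolution N
  let K := P.cochainComplex
  let e : ∀ m : ℕ, (Tor (ModuleCat.{u} A) m).obj N ≅ tensorH K (-(m : ℤ)) := fun m =>
    objIso P m ≪≫ (Functor.associator _ _ _).symm ≪≫
      Functor.isoWhiskerRight (tensorCxFIso K).symm (HomologicalComplex.homologyFunctor _ _ _)
  haveI hflat : ∀ i, Module.Flat A (K.X i) := fun i =>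
    haveI : Module.Projective A (P.cochainComplex.X i) :=
      (IsProjective.iff_projective _).2 (inferInstanceAs (Projective (P.cochainComplex.X i)))
    inferInstance
  let T : ShortComplex (_root_.DRing.Cx A) :=
    ShortComplex.mk ((tensorCxF K).map S.f) ((tensorCxF K).map S.g) (by
      refine HomologicalComplex.hom_ext _ _ fun m => ?_
      change K.X m ◁ S.f ≫ K.X m ◁ S.g = 0
      rw [← MonoidalCategory.whiskerLeft_comp, S.zero, MonoidalPreadditive.whiskerLeft_zero])
  have hT : T.ShortExact := HomologicalComplex.shortExact_of_degreewise_shortExact T fun m => by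
    have hinj := Module.Flat.lTensor_preserves_injective_linearMap (M := K.X m) S.f.hom hS.moduleCat_injective_f
    refine
      { exact := ?_
        mono_f := (ModuleCat.mono_iff_injective _).2 hinj
        epi_g := (ModuleCat.epi_iff_surjective _).2 (LinearMap.lTensor_surjective _ hS.moduleCat_surjective_g) }
    rw [ShortComplex.moduleCat_exact_iff_range_eq_ker]
    exact (LinearMap.exact_iff.mp (lTensor_exact (K.X m) ((ShortComplex.ShortExact.moduleCat_exact_iff_function_exact S).mp hS.exact) hS.moduleCat_surjective_g)).symm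
  have h2 : ∀ m : ℕ, IsZero (HomologicalComplex.homology T.X₂ (-((m + 1 : ℕ) : ℤ))) := fun m =>
    ((e (m + 1)).app S.X₂).isZero_iff.mp (isZero_Tor_succ_of_projective (ModuleCat.{u} A) N S.X₂ m)
  have d := hT.δIso (-((n + 2 : ℕ) : ℤ)) (-((n + 1 : ℕ) : ℤ)) (by simp; omega) (h2 (n + 1)) (h2 n)
  exact ((e (n + 2)).app S.X₃).isZero_iff.trans
    (d.isZero_iff.trans ((e (n + 1)).app S.X₁).isZero_iff.symm)

variable [IsLocalRing A] [IsNoetherianRing A]

local notation "k" => IsLocalRing.ResidueField A

theorem isZero_tor_of_pd (n : ℕ) : ∀ (M : Type u) [AddCommGroup M] [Module A M],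
    HasProjectiveDimensionLE (ModuleCat.of A M) n → ∀ (N : ModuleCat.{u} A) (i : ℕ), n < i →
      IsZero (((Tor (ModuleCat.{u} A) i).obj N).obj (ModuleCat.of A M)) := by
  induction n with
  | zero =>
    intro M _ _ h N i hi
    haveI : Module.Projective A M := (RegLoc.PD.pd_zero_iff M).mp h
    haveI : Projective (ModuleCat.of A M) := (IsProjective.iff_projective M).mp inferInstance
    obtain ⟨j, rfl⟩ : ∃ j, i = j + 1 := ⟨i - 1, by omega⟩
    exact isZero_Tor_succ_of_projective (ModuleCat.{u} A) N (ModuleCat.of A M) j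
  | succ n ih =>
    intro M _ _ h N i hi
    obtain ⟨j, rfl⟩ : ∃ j, i = j + 2 := ⟨i - 2, by omega⟩
    let f : (M →₀ A) →ₗ[A] M := Finsupp.linearCombination A id
    have hf : Function.Surjective f := Finsupp.linearCombination_id_surjective A M
    haveI : Projective f.shortComplexKer.X₂ := (IsProjective.iff_projective (M →₀ A)).mp inferInstance
    exact (isZero_tor_succ_iff N (LinearMap.shortExact_shortComplexKer hf) j).mpr
      (ih _ ((RegLoc.PD.pd_shift f hf n).mp h) N (j + 1) (by omega))

theorem pd_of_isZero_tor (n : ℕ) : ∀ (M : Type u) [AddCommGroup M] [Module A M] [Module.Finite A M],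
    IsZero (((Tor (ModuleCat.{u} A) (n + 1)).obj (ModuleCat.of A k)).obj (ModuleCat.of A M)) →
      HasProjectiveDimensionLE (ModuleCat.of A M) n := by
  induction n with
  | zero =>
    intro M _ _ _ h
    obtain ⟨m, f, hf⟩ := Module.Finite.exists_fin' A M
    have hi := (TorOne.isZero_tor_one_iff k f hf).mp h
    haveI : Module.Free A M := Module.free_of_lTensor_residueField_injective _ f hf
      (LinearMap.exact_subtype_ker_map f) hi
    exact RegLoc.PD.pd_of_projective M 0
  | succ n ih =>
    intro M _ _ _ h
    obtain ⟨m, f, hf⟩ := Module.Finite.exists_fin' A M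
    haveI : Projective f.shortComplexKer.X₂ := (IsProjective.iff_projective (Fin m → A)).mp inferInstance
    exact (RegLoc.PD.pd_shift f hf n).mpr
      (ih _ ((isZero_tor_succ_iff (ModuleCat.of A k) (LinearMap.shortExact_shortComplexKer hf) n).mp h))

end Groth.Agent.EGA41Lib.TorShift
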